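import Cfsg.Agent.H80.Index2
import Mathlib.GroupTheory.SpecificGroups.Alternating
import Mathlib.GroupTheory.SpecificGroups.Alternating.KleinFour

/-! Groups of order 12, simple groups with many involutions. -/

set_option autoImplicit false

namespace Cfsg.Agent.H80

open Cfsg.Agent.H4

variable {G : Type*} [Group G] [Finite G]

/-- An injective hom into `Perm (Fin n)` whose image has index two gives an isomorphism with the
alternating group. -/
theorem nonempty_mulEquiv_alternating {α : Type*} [Fintype α] [DecidableEq α] [Nontrivial α]
    (f : G →* Equiv.Perm α) (hf : Function.Injective f)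
    (hcard : 2 * Nat.card G = Nat.card (Equiv.Perm α)) :
    Nonempty (G ≃* alternatingGroup α) := by
  have h1 : f.range.index = 2 := by
    have h2 := f.range.card_mul_index
    have h3 : Nat.card f.range = Nat.card G := Nat.card_congr (MonoidHom.ofInjective hf).symm.toEquiv
    rw [h3, ← hcard, mul_comm 2] at h2
    exact Nat.eq_of_mul_eq_mul_left Nat.card_pos h2
  have h4 := Equiv.Perm.eq_alternatingGroup_of_index_eq_two h1
  exact ⟨(MonoidHom.ofInjective hf).trans (MulEquiv.subgroupCongr h4)⟩

/-- S0228 -/
theorem order_twelve (hG : Nat.card G = 12)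
    (hz : ∀ z : G, orderOf z = 2 → z ∉ Subgroup.center G) :
    Nonempty (G ≃* alternatingGroup (Fin 4)) := by
  classical
  have h2 := Fact.mk Nat.prime_two
  have h3 := Fact.mk Nat.prime_three
  obtain ⟨P⟩ : Nonempty (Sylow 3 G) := inferInstance
  obtain ⟨Q⟩ : Nonempty (Sylow 2 G) := inferInstance
  have hPc : Nat.card P = 3 := by
    have := P.card_eq_multiplicity
    rw [hG] at this
    rw [this]
    have : (12 : ℕ).factorization 3 = 1 := by
      rw [show (12 : ℕ) = 3 * 4 by norm_num, Nat.factorization_mul (by norm_num) (by norm_num)]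
      simp [Nat.Prime.factorization Nat.prime_three, Nat.factorization_eq_zero_of_not_dvd (show ¬ 3 ∣ 4 by norm_num)]
    rw [this]; norm_num
  have hQc : Nat.card Q = 4 := by
    have := Q.card_eq_multiplicity
    rw [hG] at this
    rw [this]
    have : (12 : ℕ).factorization 2 = 2 := by
      rw [show (12 : ℕ) = 2 ^ 2 * 3 by norm_num, Nat.factorization_mul (by norm_num) (by norm_num),
        Nat.Prime.factorization_pow Nat.prime_two]
      simp [Nat.factorization_eq_zero_of_not_dvd (show ¬ 2 ∣ 3 by norm_num)]
    rw [this]; norm_num
  by_cases hN : (P : Subgroup G).Normal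
  · exfalso
    -- Q acts on P; kernel nontrivial
    have hQcomm : IsMulCommutative Q := IsPGroup.isMulCommutative_of_card_eq_prime_sq (p := 2)
      (by rw [hQc]; norm_num)
    -- a nontrivial element of Q centralizing P
    have hex : ∃ t ∈ Q, orderOf t = 2 ∧ t ∈ Subgroup.centralizer ((P : Subgroup G) : Set G) := by
      let φ : Q →* MulAut (P : Subgroup G) := (MulAut.conjNormal (H := (P : Subgroup G))).comp (Q : Subgroup G).subtype
      have hcyc : IsCyclic (P : Subgroup G) := isCyclic_of_prime_card (p := 3) hPc
      have hA : Nat.card (MulAut (P : Subgroup G)) = 2 := by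
        rw [IsCyclic.card_mulAut, hPc]; decide
      have hninj : ¬ Function.Injective φ := by
        intro hinj
        have := Nat.card_le_card_of_injective _ hinj
        rw [hA, hQc] at this
        omega
      rw [← MonoidHom.ker_eq_bot_iff] at hninj
      have hke : Even (Nat.card φ.ker) := by
        have h4 := Subgroup.card_subgroup_dvd_card φ.ker
        rw [hQc] at h4
        have h5 : Nat.card φ.ker ≠ 1 := fun h => hninj (Subgroup.card_eq_one.mp h)
        rw [show (4 : ℕ) = 2 ^ 2 by norm_num] at h4
        obtain ⟨k, hk, hk'⟩ := (Nat.dvd_prime_pow Nat.prime_two).mp h4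
        rw [hk', Nat.even_pow' (by rintro rfl; exact h5 (by simpa using hk'))]
        exact even_two
      obtain ⟨t, ht⟩ := exists_involution hke
      refine ⟨t.1.1, t.1.2, ?_, ?_⟩
      · rw [Subgroup.orderOf_coe, Subgroup.orderOf_coe]; exact ht
      · rw [Subgroup.mem_centralizer_iff]
        intro x hx
        have h6 : φ t.1 = 1 := t.2
        have h7 : φ t.1 ⟨x, hx⟩ = ⟨x, hx⟩ := by rw [h6]; rfl
        have h8 : t.1.1 * x * t.1.1⁻¹ = x := congrArg Subtype.val h7
        exact (mul_inv_eq_iff_eq_mul.mp h8).symm
    obtain ⟨t, htQ, ht2, htP⟩ := hex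
    apply hz t ht2
    -- centralizer of t contains P and Q so has order 12
    have hle1 : (P : Subgroup G) ≤ Subgroup.centralizer ({t} : Set G) := by
      intro x hx
      rw [Subgroup.mem_centralizer_singleton_iff]
      exact Subgroup.mem_centralizer_iff.mp htP x hx
    have hle2 : (Q : Subgroup G) ≤ Subgroup.centralizer ({t} : Set G) := by
      intro x hx
      rw [Subgroup.mem_centralizer_singleton_iff]
      have := hQcomm.is_comm.comm ⟨x, hx⟩ ⟨t, htQ⟩
      exact congrArg Subtype.val this
    have hd1 := Subgroup.card_dvd_of_le hle1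
    have hd2 := Subgroup.card_dvd_of_le hle2
    rw [hPc] at hd1
    rw [hQc] at hd2
    have hd3 := Subgroup.card_subgroup_dvd_card (Subgroup.centralizer ({t} : Set G))
    rw [hG] at hd3
    have hd4 : 12 ∣ Nat.card (Subgroup.centralizer ({t} : Set G)) := by
      have : Nat.Coprime 3 4 := by norm_num
      exact this.mul_dvd_of_dvd_of_dvd hd1 hd2
    have htop : Subgroup.centralizer ({t} : Set G) = ⊤ := by
      apply Subgroup.eq_top_of_card_eq
      rw [hG]
      exact Nat.dvd_antisymm hd3 hd4
    rw [Subgroup.mem_center_iff]
    intro g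
    have hg : g ∈ Subgroup.centralizer ({t} : Set G) := by rw [htop]; exact Subgroup.mem_top g
    exact Subgroup.mem_centralizer_singleton_iff.mp hg
  · -- four Sylow 3-subgroups
    have hcard : Nat.card (Sylow 3 G) = 4 := by
      have h4 := Sylow.card_dvd_index P
      have h5 := (P : Subgroup G).card_mul_index
      rw [hPc, hG] at h5
      have h6 : (P : Subgroup G).index = 4 := by omega
      rw [h6] at h4
      have h7 := card_sylow_modEq_one 3 G
      have h8 : Nat.card (Sylow 3 G) ≤ 4 := Nat.le_of_dvd (by norm_num) h4
      have h9 : Nat.card (Sylow 3 G) ≠ 1 := by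
        intro h
        apply hN
        rw [Nat.card_eq_one_iff_unique] at h
        have := h.1
        exact Sylow.normal_of_subsingleton P
      have h10 : Nat.card (Sylow 3 G) % 3 = 1 := h7
      interval_cases h : Nat.card (Sylow 3 G) <;> omega
    have hnorm : ∀ P : Sylow 3 G, Subgroup.normalizer ((P : Subgroup G) : Set G) = P := by
      intro P
      have hPc : Nat.card P = 3 := by
        have := P.card_eq_multiplicity
        rw [hG] at this
        rw [this]
        have : (12 : ℕ).factorization 3 = 1 := by
          rw [show (12 : ℕ) = 3 * 4 by norm_num, Nat.factorization_mul (by norm_num) (by norm_num)]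
          simp [Nat.Prime.factorization Nat.prime_three, Nat.factorization_eq_zero_of_not_dvd (show ¬ 3 ∣ 4 by norm_num)]
        rw [this]; norm_num
      have h4 := P.card_eq_index_normalizer
      rw [hcard] at h4
      have h5 := (Subgroup.normalizer ((P : Subgroup G) : Set G)).card_mul_index
      have h6 : (Subgroup.normalizer ((P : Subgroup G) : Set G)).index = 4 := h4.symm
      rw [h6, hG] at h5
      symm
      apply Subgroup.eq_of_le_of_card_ge Subgroup.le_normalizer
      rw [hPc]; omega
    -- faithful action
    have hinj : Function.Injective (MulAction.toPermHom G (Sylow 3 G)) := by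
      rw [← MonoidHom.ker_eq_bot_iff, eq_bot_iff]
      intro g hg
      have hall : ∀ P : Sylow 3 G, g ∈ (P : Subgroup G) := by
        intro P
        rw [← hnorm P]
        have : MulAction.toPermHom G (Sylow 3 G) g = 1 := hg
        exact (Sylow.smul_eq_iff_mem_normalizer (P := P)).mp (congrArg (fun f => f P) this)
      have hnt : ∃ P' : Sylow 3 G, P' ≠ P := by
        have : Nontrivial (Sylow 3 G) := by
          rw [← Finite.one_lt_card_iff_nontrivial, hcard]; norm_num
        exact exists_ne P
      obtain ⟨P', hP'⟩ := hnt
      rw [Subgroup.mem_bot]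
      by_contra hg1
      have hPP : (P : Subgroup G) = Subgroup.zpowers g := by
        symm
        apply Subgroup.eq_of_le_of_card_ge (Subgroup.zpowers_le.mpr (hall P))
        rw [hPc, Nat.card_zpowers]
        have h4 : orderOf g ∣ 3 := by
          rw [← hPc, ← Subgroup.orderOf_mk g (hall P)]; exact orderOf_dvd_natCard _
        rcases (Nat.dvd_prime Nat.prime_three).mp h4 with h | h
        · exact absurd (orderOf_eq_one_iff.mp h) hg1
        · omega
      have h4 : (P : Subgroup G) ≤ P' := by
        rw [hPP]; exact Subgroup.zpowers_le.mpr (hall P')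
      exact hP' (Sylow.ext (P.3 P'.2 h4))
    have e : Sylow 3 G ≃ Fin 4 := Finite.equivFinOfCardEq hcard
    refine nonempty_mulEquiv_alternating
      ((e.permCongrHom : Equiv.Perm (Sylow 3 G) ≃* Equiv.Perm (Fin 4)).toMonoidHom.comp
        (MulAction.toPermHom G (Sylow 3 G))) ?_ ?_
    · intro a b h
      exact hinj (e.permCongrHom.injective h)
    · rw [Nat.card_perm, hG, Nat.card_eq_fintype_card, Fintype.card_fin]; rfl


theorem alternating_four_not_simple : ¬ IsSimpleGroup (alternatingGroup (Fin 4)) := by
  intro h
  have h4 : Nat.card (Fin 4) = 4 := by simp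
  have hn := alternatingGroup.normal_kleinFour h4
  have hc := alternatingGroup.kleinFour_card_of_card_eq_four h4
  have hA := alternatingGroup.card_of_card_eq_four h4
  rcases hn.eq_bot_or_eq_top with h1 | h1
  · rw [h1, Subgroup.card_bot] at hc; omega
  · rw [h1, Subgroup.card_top, hA] at hc; omega

theorem card_involutions_A5 :
    Fintype.card {x : alternatingGroup (Fin 5) // x * x = 1 ∧ x ≠ 1} = 15 := by
  decide +kernel

theorem numInv_congr {G K : Type*} [Group G] [Group K] (e : G ≃* K) : numInv G = numInv K := by
  unfold numInv
  refine Nat.card_congr (e.toEquiv.subtypeEquiv ?_)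
  intro a
  change _ ↔ orderOf (e a) = 2
  rw [MulEquiv.orderOf_eq]

theorem numInv_A5 : numInv (alternatingGroup (Fin 5)) = 15 := by
  rw [← card_involutions_A5, ← Nat.card_eq_fintype_card]
  unfold numInv
  refine Nat.card_congr (Equiv.subtypeEquivRight ?_)
  intro x
  constructor
  · intro h
    exact ⟨mul_self_of_orderOf_two h, ne_one_of_orderOf_two h⟩
  · rintro ⟨h1, h2⟩
    exact orderOf_eq_two_of_mul_self h1 h2

theorem card_A5 : Nat.card (alternatingGroup (Fin 5)) = 60 := by
  rw [nat_card_alternatingGroup]; simp; rfl

/-- S0234 -/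
theorem three_mul_numInv_lt [IsSimpleGroup G] (heven : Even (Nat.card G)) (hgt : 2 < Nat.card G) :
    3 * numInv G < Nat.card G := by
  classical
  have hp2 := Fact.mk Nat.prime_two
  by_contra hle
  push Not at hle
  have hZ : Subgroup.center G = ⊥ := by
    rcases simple_order_two_or_center_bot (G := G) heven with h | h
    · omega
    · exact h
  have hno := simple_index_ne_two (G := G) hgt
  obtain ⟨H, hH, h | h⟩ := exists_small_index heven (G := G) (by rw [hZ]; simp)
  · exact hno H h
  have hn : 0 < numInv G := by
    obtain ⟨t, ht⟩ := exists_involution heven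
    have := card_le_numInv_mul t ht
    by_contra h0
    have : numInv G = 0 := by omega
    omega
  have hidx : H.index ≤ 5 := by
    have h1 : 2 * H.index * (numInv G * (numInv G + 1)) ≤
        (3 * numInv G) * (4 * numInv G - 1) :=
      h.trans (Nat.mul_le_mul hle (by omega))
    by_contra h6
    push Not at h6
    have h7 : 12 * (numInv G * (numInv G + 1)) ≤ 2 * H.index * (numInv G * (numInv G + 1)) :=
      Nat.mul_le_mul_right _ (by omega)
    have h8 : (3 * numInv G) * (4 * numInv G - 1) ≤ (3 * numInv G) * (4 * numInv G) :=
      Nat.mul_le_mul_left _ (by omega)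
    nlinarith
  -- embed in Perm (Fin 5)
  obtain ⟨e⟩ : Nonempty ((G ⧸ H) ↪ Fin 5) := by
    have := Fintype.ofFinite (G ⧸ H)
    rw [Function.Embedding.nonempty_iff_card_le, Fintype.card_fin, ← Nat.card_eq_fintype_card]
    exact hidx
  let f : G →* Equiv.Perm (Fin 5) :=
    (Equiv.Perm.viaEmbeddingHom e).comp (MulAction.toPermHom G (G ⧸ H))
  have hf : Function.Injective f :=
    (Equiv.Perm.viaEmbeddingHom_injective e).comp (simple_toPermHom_injective H hH)
  have hfalt : ∀ g, f g ∈ alternatingGroup (Fin 5) := by
    by_contra hcon
    push Not at hcon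
    obtain ⟨g₀, hg₀⟩ := hcon
    rw [Equiv.Perm.mem_alternatingGroup] at hg₀
    apply hno ((Equiv.Perm.sign.comp f).ker)
    rw [Subgroup.index_ker]
    have : (Equiv.Perm.sign.comp f).range = ⊤ := by
      rw [eq_top_iff]
      intro u _
      rcases Int.units_eq_one_or u with h | h
      · rw [h]; exact Subgroup.one_mem _
      · refine ⟨g₀, ?_⟩
        rw [h]
        exact (Int.units_eq_one_or _).resolve_left hg₀
    rw [this, Subgroup.card_top]
    simp
  let f' : G →* alternatingGroup (Fin 5) := f.codRestrict _ hfalt
  have hf' : Function.Injective f' := by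
    intro a b hab
    exact hf (congrArg Subtype.val hab)
  have hcardK : Nat.card f'.range = Nat.card G :=
    Nat.card_congr (MonoidHom.ofInjective hf').symm.toEquiv
  by_cases htop : f'.range = ⊤
  · have e' : G ≃* alternatingGroup (Fin 5) :=
      (MonoidHom.ofInjective hf').trans ((MulEquiv.subgroupCongr htop).trans Subgroup.topEquiv)
    have h1 := numInv_congr e'
    rw [numInv_A5] at h1
    have h2 := Nat.card_congr e'.toEquiv
    rw [card_A5] at h2
    omega
  · have hs : IsSimpleGroup (alternatingGroup (Fin 5)) := inferInstance
    have h1 := simple_card_le_factorial f'.range htop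
    have h2 := f'.range.card_mul_index
    rw [card_A5] at h1 h2
    rw [hcardK] at h2
    have h3 : 5 ≤ f'.range.index := by
      by_contra h4
      push Not at h4
      have h5 : f'.range.index.factorial ≤ Nat.factorial 4 := Nat.factorial_le (by omega)
      have h6 : Nat.factorial 4 = 24 := rfl
      omega
    have h4 : Nat.card G ≤ 12 := by nlinarith
    have h5 : Nat.card G ∣ 60 := ⟨_, h2.symm⟩
    have hcyc : Nat.card G % 4 ≠ 0 → False := by
      intro h4'
      obtain ⟨T⟩ : Nonempty (Sylow 2 G) := inferInstance
      have hTc : IsCyclic (T : Subgroup G) := by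
        obtain ⟨k, hk⟩ := IsPGroup.iff_card.mp T.2
        have hk1 : k ≤ 1 := by
          by_contra hk2
          push Not at hk2
          have h5 := Subgroup.card_subgroup_dvd_card (T : Subgroup G)
          rw [hk] at h5
          have h6 : 4 ∣ Nat.card G := (pow_dvd_pow 2 hk2).trans h5
          omega
        interval_cases k
        · exact @isCyclic_of_subsingleton _ _ (by
            rw [pow_zero] at hk
            exact (Nat.card_eq_one_iff_unique.mp hk).1)
        · exact isCyclic_of_prime_card (p := 2) (by simpa using hk)
      obtain ⟨H', hH'⟩ := exists_index_two_of_cyclic_sylow heven T hTc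
      exact hno H' hH'
    have h6 : Nat.card G = 4 ∨ Nat.card G = 12 := by
      by_contra hcon
      push Not at hcon
      by_cases h7 : Nat.card G % 4 = 0
      · have h8 : Nat.card G = 8 := by omega
        rw [h8] at h5
        exact absurd h5 (by norm_num)
      · exact hcyc h7
    rcases h6 with h6 | h6
    · obtain ⟨H', hH'⟩ := exists_index_two_of_surjective (MonoidHom.id G) Function.surjective_id 1
        (by rw [h6]; norm_num)
      exact hno H' hH'
    · obtain ⟨e4⟩ := order_twelve h6 (by
        intro z hz hzZ
        rw [hZ, Subgroup.mem_bot] at hzZ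
        exact ne_one_of_orderOf_two hz hzZ)
      have : IsSimpleGroup (alternatingGroup (Fin 4)) := by
        have : Nontrivial (alternatingGroup (Fin 4)) := e4.symm.toEquiv.nontrivial
        exact IsSimpleGroup.isSimpleGroup_of_surjective e4.toMonoidHom e4.surjective
      exact alternating_four_not_simple this

end Cfsg.Agent.H80
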