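import Cfsg.Agent.H75.CenterDeg
import Cfsg.Agent.H79.LinChar
import Cfsg.Agent.Char.Linear
import Cfsg.Agent.H80.IndUtil

/-!
# Faithful characters of groups of class two (owner: helper80)
-/

set_option autoImplicit false

namespace Cfsg.Agent.H80

open scoped ComplexConjugate BigOperators commutatorElement
open Cfsg Cfsg.Agent.CharBase Cfsg.Agent.H75 Cfsg.Agent.Char

universe u v

variable {G : Type u} [Group G] [Finite G]

/-- central character -/
noncomputable def centHom (χ : IrrCharacter G) : Subgroup.center G →* ℂ where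
  toFun z := (χ : G → ℂ) z / (χ : G → ℂ) 1
  map_one' := div_self (irr_one_ne_zero χ.2)
  map_mul' a b := by
    rw [Subgroup.coe_mul, char_mul_central χ.2 b.2]
    ring

theorem centHom_apply (χ : IrrCharacter G) (z : Subgroup.center G) :
    centHom χ z = (χ : G → ℂ) z / (χ : G → ℂ) 1 := rfl

theorem char_center (χ : IrrCharacter G) (z : Subgroup.center G) :
    (χ : G → ℂ) z = (χ : G → ℂ) 1 * centHom χ z := by
  rw [centHom_apply]
  field_simp [irr_one_ne_zero χ.2]

theorem centHom_injective (χ : IrrCharacter G)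
    (hf : ∀ g : G, (χ : G → ℂ) g = (χ : G → ℂ) 1 → g = 1) : Function.Injective (centHom χ) := by
  rw [injective_iff_map_eq_one]
  intro z hz
  apply Subtype.ext
  apply hf
  rw [char_center, hz, mul_one]

theorem center_cyclic_of_faithful (χ : IrrCharacter G)
    (hf : ∀ g : G, (χ : G → ℂ) g = (χ : G → ℂ) 1 → g = 1) : IsCyclic (Subgroup.center G) :=
  isCyclic_of_injective_ringHom (centHom χ) (centHom_injective χ hf)

theorem centHom_norm (χ : IrrCharacter G) (z : Subgroup.center G) :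
    centHom χ z * conj (centHom χ z) = 1 := by
  have h1 : ‖centHom χ z‖ = 1 := by
    apply Complex.norm_eq_one_of_pow_eq_one (n := Nat.card (Subgroup.center G)) _ Nat.card_pos.ne'
    rw [← map_pow, pow_card_eq_one', map_one]
  rw [Complex.mul_conj, Complex.normSq_eq_norm_sq, h1]
  norm_num

/-- A faithful irreducible character of a group of class at most two vanishes off the centre. -/
theorem vanish_off_center (χ : IrrCharacter G)
    (hf : ∀ g : G, (χ : G → ℂ) g = (χ : G → ℂ) 1 → g = 1)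
    (hc : ∀ x y : G, x * y * x⁻¹ * y⁻¹ ∈ Subgroup.center G) {x : G} (hx : x ∉ Subgroup.center G) :
    (χ : G → ℂ) x = 0 := by
  have h1ne := irr_one_ne_zero χ.2
  rw [Subgroup.mem_center_iff] at hx
  push Not at hx
  obtain ⟨w, hxw⟩ := hx
  have h2 := hc w x
  have h3 := irr_isClassFunction χ x w
  have h4 : w * x * w⁻¹ = x * (w * x * w⁻¹ * x⁻¹) := by
    have := Subgroup.mem_center_iff.mp h2 x
    rw [this]; group
  rw [h4, char_mul_central χ.2 h2] at h3
  by_contra h0
  have h5 : (χ : G → ℂ) (w * x * w⁻¹ * x⁻¹) = (χ : G → ℂ) 1 := by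
    have h6 : (χ : G → ℂ) (w * x * w⁻¹ * x⁻¹) / (χ : G → ℂ) 1 = 1 := by
      have : ((χ : G → ℂ) (w * x * w⁻¹ * x⁻¹) / (χ : G → ℂ) 1) * (χ : G → ℂ) x =
        1 * (χ : G → ℂ) x := by rw [h3, one_mul]
      exact mul_right_cancel₀ h0 this
    rwa [div_eq_one_iff_eq h1ne] at h6
  have h6 := hf _ h5
  apply hxw
  have h7 : w * x * w⁻¹ = x := mul_inv_eq_one.mp h6
  exact mul_inv_eq_iff_eq_mul.mp h7

theorem sum_eq_sum_subgroup {G : Type u} [Group G] [Fintype G] (H : Subgroup G) [Fintype H]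
    {M : Type*} [AddCommMonoid M] (F : G → M)
    (hF : ∀ g, g ∉ H → F g = 0) : ∑ g : G, F g = ∑ h : H, F h := by
  classical
  rw [← Finset.sum_subtype (Finset.univ.filter (· ∈ H)) (by simp) F]
  symm
  apply Finset.sum_subset (Finset.subset_univ _)
  intro x _ hx
  apply hF
  simpa using hx

/-- and its degree squared is the index of the centre. -/
theorem deg_sq_eq_index_center (χ : IrrCharacter G)
    (hf : ∀ g : G, (χ : G → ℂ) g = (χ : G → ℂ) 1 → g = 1)
    (hc : ∀ x y : G, x * y * x⁻¹ * y⁻¹ ∈ Subgroup.center G) :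
    deg χ ^ 2 = (Subgroup.center G).index := by
  classical
  have := Fintype.ofFinite G
  have := Fintype.ofFinite (Subgroup.center G)
  have h1 := classInner_irr_self χ
  unfold classInner at h1
  have hG0 : (Nat.card G : ℂ) ≠ 0 := by exact_mod_cast Nat.card_pos.ne'
  rw [inv_mul_eq_one₀ hG0] at h1
  have h2 : ∑ g : G, (χ : G → ℂ) g * conj ((χ : G → ℂ) g) =
      ∑ z : Subgroup.center G, (deg χ : ℂ) * (deg χ : ℂ) := by
    rw [sum_eq_sum_subgroup (Subgroup.center G) _ (fun g hg => by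
      rw [vanish_off_center χ hf hc hg, zero_mul])]
    refine Finset.sum_congr rfl (fun z _ => ?_)
    rw [char_center, map_mul, deg_spec χ, Complex.conj_natCast]
    linear_combination ((deg χ : ℂ) * deg χ) * centHom_norm χ z
  rw [h2, Finset.sum_const, Finset.card_univ, nsmul_eq_mul, ← Nat.card_eq_fintype_card] at h1
  have h3 : Nat.card G = Nat.card (Subgroup.center G) * (deg χ * deg χ) := by exact_mod_cast h1
  have h4 := (Subgroup.center G).card_mul_index
  rw [h3] at h4
  have h5 := Nat.eq_of_mul_eq_mul_left Nat.card_pos h4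
  rw [h5, sq]

/-- product with a linear character -/
theorem isIrr_mul_linear (χ l : IrrCharacter G) (hl : (l : G → ℂ) 1 = 1) :
    IsIrrCharacter G (fun g => (χ : G → ℂ) g * (l : G → ℂ) g) := by
  classical
  have := Fintype.ofFinite G
  change IsIrrCharacter G ((χ : G → ℂ) * (l : G → ℂ))
  rw [isIrrCharacter_iff (isCharacter_mul (irr_isCharacter χ) (irr_isCharacter l))]
  rw [← classInner_irr_self χ]
  unfold classInner
  congr 1
  refine Finset.sum_congr rfl (fun g _ => ?_)
  rw [Pi.mul_apply, map_mul]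
  have := linChar_mul_conj (irr_isCharacter l) hl g
  linear_combination ((χ : G → ℂ) g * conj ((χ : G → ℂ) g)) * this

/-- equal degree implies equal kernel -/
def SameKer (G : Type u) [Group G] [Finite G] : Prop :=
  ∀ χ ψ : IrrCharacter G, deg χ ≠ 1 → deg χ = deg ψ → ∀ g : G,
    (χ : G → ℂ) g = (χ : G → ℂ) 1 → (ψ : G → ℂ) g = (ψ : G → ℂ) 1

theorem SameKer.quotient (h : SameKer G) (N : Subgroup G) [N.Normal] : SameKer (G ⧸ N) := by
  intro χ ψ hne hd g hg
  induction g using QuotientGroup.induction_on with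
  | H x =>
  have h1 := h ⟨_, isIrrCharacter_inflate N χ.2⟩ ⟨_, isIrrCharacter_inflate N ψ.2⟩
    (by rw [deg_eq_of_one_eq (χ := (⟨_, isIrrCharacter_inflate N χ.2⟩ : IrrCharacter G)) (ψ := χ) rfl]
        exact hne)
    (by rw [deg_eq_of_one_eq (χ := (⟨_, isIrrCharacter_inflate N χ.2⟩ : IrrCharacter G)) (ψ := χ) rfl,
          deg_eq_of_one_eq (χ := (⟨_, isIrrCharacter_inflate N ψ.2⟩ : IrrCharacter G)) (ψ := ψ) rfl]
        exact hd) x hg
  exact h1

theorem SameKer.ker_le (h : SameKer G) (χ : IrrCharacter G) (hχ : deg χ ≠ 1) {x : G}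
    (hx : (χ : G → ℂ) x = (χ : G → ℂ) 1) : x ∈ commutator G := by
  by_contra hxc
  obtain ⟨l, hl1, hl⟩ := H79.exists_linear_ne_one hxc
  have h1 : deg χ = deg (⟨_, isIrr_mul_linear χ l hl1⟩ : IrrCharacter G) := by
    apply deg_eq_of_one_eq
    change _ = (χ : G → ℂ) 1 * (l : G → ℂ) 1
    rw [hl1, mul_one]
  have h2 := h χ ⟨_, isIrr_mul_linear χ l hl1⟩ hχ h1 x hx
  change (χ : G → ℂ) x * (l : G → ℂ) x = (χ : G → ℂ) 1 * (l : G → ℂ) 1 at h2
  rw [hx, hl1] at h2
  exact hl (mul_left_cancel₀ (irr_one_ne_zero χ.2) h2)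

theorem mem_ker_of_linear (χ : IrrCharacter G) (hχ : deg χ = 1) {x : G} (hx : x ∈ commutator G) :
    (χ : G → ℂ) x = (χ : G → ℂ) 1 := by
  have h1 : (χ : G → ℂ) 1 = 1 := by rw [deg_spec χ, hχ]; simp
  rw [H79.linear_of_mem_commutator (irr_isCharacter χ) h1 hx, h1]

end Cfsg.Agent.H80
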