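import Cfsg.Agent.H80.SylowIn

/-! Isolated involutions, TI Sylow 2-subgroups, Thompson order formula. -/

set_option autoImplicit false

namespace Cfsg.Agent.H80

open Cfsg.Agent.H4

variable {G : Type*} [Group G] [Finite G]

/-- two commuting involutions lie in a common Sylow 2-subgroup; more precisely any 2-subgroup
lies in a conjugate of `P`. -/
theorem exists_conj_mem_sylow {p : ℕ} [Fact p.Prime] (P : Sylow p G) {X : Subgroup G}
    (hX : IsPGroup p X) : ∃ g : G, cj g X ≤ P := by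
  obtain ⟨k, -, h⟩ := (isSylowIn_of_le P (K := ⊤) le_top).exists_conj_le hX le_top
  exact ⟨k, h⟩

/-- The subgroup generated by two commuting involutions is a 2-group. -/
theorem isPGroup_closure_of_commute {x y : G} (hx : orderOf x = 2) (hy : orderOf y = 2)
    (h : Commute x y) : IsPGroup 2 (Subgroup.closure ({x, y} : Set G)) := by
  have hx2 := mul_self_of_orderOf_two hx
  have hy2 := mul_self_of_orderOf_two hy
  intro ⟨g, hg⟩
  refine ⟨1, ?_⟩
  apply Subtype.ext
  change g ^ (2 ^ 1) = 1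
  rw [pow_one]
  have hxy : (x * y) ^ 2 = 1 := by
    rw [h.mul_pow, pow_two, pow_two, hx2, hy2, one_mul]
  rcases (mem_closure_pair_iff hx2 hy2 g).mp hg with ⟨k, rfl⟩ | ⟨k, rfl⟩
  · have h2 : ((x * y) ^ k) ^ 2 = ((x * y) ^ 2) ^ k := by
      rw [← zpow_natCast, ← zpow_mul, mul_comm, zpow_mul]; norm_cast
    rw [h2, hxy, one_zpow]
  · rw [pow_two]
    exact mul_zpow_sq hx2 hy2 k

/-- isolated: a conjugate of `u` commuting with `u` equals `u`. -/
theorem isolated_of_sylow (P : Sylow 2 G) (u : G) (hu : orderOf u = 2) (huP : u ∈ P)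
    (hiso : ∀ g : G, g * u * g⁻¹ ∈ P → g * u * g⁻¹ = u) (g : G)
    (hc : Commute u (g * u * g⁻¹)) : g * u * g⁻¹ = u := by
  have := Fact.mk Nat.prime_two
  have hgu : orderOf (g * u * g⁻¹) = 2 := by rw [orderOf_conj', hu]
  obtain ⟨k, hk⟩ := exists_conj_mem_sylow P (isPGroup_closure_of_commute hu hgu hc)
  have h1 : k * u * k⁻¹ ∈ P := by
    apply hk
    rw [mem_cj]
    have : k⁻¹ * (k * u * k⁻¹) * k = u := by group
    rw [this]
    exact Subgroup.subset_closure (by simp)
  have h2 : k * (g * u * g⁻¹) * k⁻¹ ∈ P := by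
    apply hk
    rw [mem_cj]
    have : k⁻¹ * (k * (g * u * g⁻¹) * k⁻¹) * k = g * u * g⁻¹ := by group
    rw [this]
    exact Subgroup.subset_closure (by simp)
  have h3 := hiso k h1
  have h4 := hiso (k * g) (by
    have : k * g * u * (k * g)⁻¹ = k * (g * u * g⁻¹) * k⁻¹ := by group
    rw [this]; exact h2)
  calc g * u * g⁻¹ = k⁻¹ * (k * g * u * (k * g)⁻¹) * k := by group
    _ = k⁻¹ * u * k := by rw [h4]
    _ = k⁻¹ * (k * u * k⁻¹) * k := by rw [h3]
    _ = u := by group

/-- S0216 -/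
theorem isolated_iff (P : Sylow 2 G) (u : G) (hu : orderOf u = 2) (huP : u ∈ P) :
    (∀ g : G, g * u * g⁻¹ ∈ P → g * u * g⁻¹ = u) ↔
      (∀ g : G, Odd (orderOf (u * g * u⁻¹ * g⁻¹))) := by
  have hui := inv_eq_self_of_orderOf_two hu
  have hu2 := mul_self_of_orderOf_two hu
  constructor
  · intro hiso g
    set v := g * u * g⁻¹ with hv
    have hvo : orderOf v = 2 := by rw [hv, orderOf_conj', hu]
    have hv2 := mul_self_of_orderOf_two hvo
    have hcomm : u * g * u⁻¹ * g⁻¹ = u * v := by rw [hui, hv]; group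
    rw [hcomm]
    by_contra hodd
    rw [Nat.not_odd_iff_even] at hodd
    set n := orderOf (u * v) with hn
    have hz := orderOf_pow_half hodd (orderOf_pos (u * v))
    set z := (u * v) ^ (n / 2) with hzdef
    have hzu : Commute z u := conj_pow_half_left hu2 hv2 hodd
    have hzv : Commute z v := conj_pow_half_right hu2 hv2 hodd
    -- in either case `u * z` is conjugate to `u`
    have huz : ∃ k : G, k * u * k⁻¹ = u * z := by
      by_cases h4 : 4 ∣ n
      · obtain ⟨d, -, hd⟩ := (exists_conj_mul_pow_half_iff hu2 hv2 hodd).mpr h4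
        exact ⟨d, hd⟩
      · -- n = 2 m, m odd: u z = u (uv)^m conj to v
        obtain ⟨m, hm⟩ := hodd
        have hm' : n / 2 = m := by omega
        have hmodd : Odd m := by
          rw [← Nat.not_even_iff_odd]
          rintro ⟨l, hl⟩
          exact h4 ⟨l, by omega⟩
        obtain ⟨l, hl⟩ := hmodd
        -- v = u (uv); u (uv)^(2l+1) = (uv)^(-l) v (uv)^l
        refine ⟨((u * v) ^ (-(l : ℤ))) * g, ?_⟩
        have h5 : ((u * v) ^ (-(l : ℤ))) * g * u * (((u * v) ^ (-(l : ℤ))) * g)⁻¹ =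
            (u * v) ^ (-(l : ℤ)) * v * ((u * v) ^ (-(l : ℤ)))⁻¹ := by rw [hv]; group
        rw [h5, hzdef, hm', hl]
        have h6 : v = u * (u * v) := by rw [← mul_assoc, hu2, one_mul]
        have h7 : (u * v) ^ (-(l : ℤ)) * v = u * (u * v) ^ ((l : ℤ) + 1) := by
          nth_rewrite 2 [h6]
          rw [← mul_assoc, zpow_mul_left hu2 hv2, neg_neg, mul_assoc, ← zpow_add_one]
        rw [h7, ← zpow_neg, neg_neg, mul_assoc, ← zpow_add]
        congr 1
        rw [← zpow_natCast]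
        congr 1
        push_cast
        ring
    obtain ⟨k, hk⟩ := huz
    have hcu : Commute u (k * u * k⁻¹) := by
      rw [hk]
      exact (Commute.refl u).mul_right hzu.symm
    have h8 := isolated_of_sylow P u hu huP hiso k hcu
    rw [hk] at h8
    have h9 : z = 1 := by simpa using h8
    exact ne_one_of_orderOf_two hz h9
  · intro hodd g hg
    have h1 := hodd g
    set v := g * u * g⁻¹ with hv
    have hcomm : u * g * u⁻¹ * g⁻¹ = u * v := by rw [hui, hv]; group
    rw [hcomm] at h1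
    have hmem : u * v ∈ P := P.mul_mem huP hg
    obtain ⟨k, hk⟩ := P.2 ⟨u * v, hmem⟩
    have hk' : (u * v) ^ 2 ^ k = 1 := congrArg Subtype.val hk
    have h2 : orderOf (u * v) ∣ 2 ^ k := orderOf_dvd_of_pow_eq_one hk'
    obtain ⟨j, -, hj⟩ := (Nat.dvd_prime_pow Nat.prime_two).mp h2
    rw [hj] at h1
    have hj0 : j = 0 := by
      by_contra hj0
      exact (Nat.not_odd_iff_even.mpr ((Nat.even_pow' hj0).mpr even_two)) h1
    rw [hj0, pow_zero, orderOf_eq_one_iff] at hj
    rw [← hui]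
    exact eq_inv_of_mul_eq_one_right hj

/-- S0229 -/
theorem orderOf_mul_isolated (S : Sylow 2 G) (t : G) (ht : orderOf t = 2) (htS : t ∈ S)
    (hiso : ∀ g : G, g * t * g⁻¹ ∈ S → g * t * g⁻¹ = t) (s : G) (hs : orderOf s = 2)
    (hns : ¬ IsConj s t) : orderOf (s * t) % 4 = 2 := by
  have ht2 := mul_self_of_orderOf_two ht
  have hs2 := mul_self_of_orderOf_two hs
  have hinv : orderOf (s * t) = orderOf (t * s) := by
    have : s * t = t⁻¹ * (t * s) * t⁻¹⁻¹ := by group
    rw [this, orderOf_conj']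
  rw [hinv]
  have heven : Even (orderOf (t * s)) := by
    rw [← Nat.not_odd_iff_even]
    intro hodd
    obtain ⟨d, -, hd⟩ := exists_conj_of_odd ht2 hs2 hodd
    exact hns (isConj_iff.mpr ⟨d, hd⟩).symm
  have h4 : ¬ 4 ∣ orderOf (t * s) := by
    intro h4
    obtain ⟨d, -, hd⟩ := (exists_conj_mul_pow_half_iff ht2 hs2 heven).mpr h4
    have hz := orderOf_pow_half heven (orderOf_pos (t * s))
    have hzt : Commute ((t * s) ^ (orderOf (t * s) / 2)) t := conj_pow_half_left ht2 hs2 heven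
    have hcu : Commute t (d * t * d⁻¹) := by
      rw [hd]
      exact (Commute.refl t).mul_right hzt.symm
    have h8 := isolated_of_sylow S t ht htS hiso d hcu
    rw [hd] at h8
    have h9 : (t * s) ^ (orderOf (t * s) / 2) = 1 := by simpa using h8
    exact ne_one_of_orderOf_two hz h9
  have h2 := heven.two_dvd
  omega

open scoped Pointwise in
/-- S0231 -/
theorem isConj_of_TI (T : Sylow 2 G) (hnn : ¬ (T : Subgroup G).Normal)
    (hTI : ∀ g : G, MulAut.conj g • (T : Subgroup G) ≠ T →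
      MulAut.conj g • (T : Subgroup G) ⊓ T = ⊥) (s t : G) (hs : orderOf s = 2)
    (ht : orderOf t = 2) : IsConj s t := by
  have := Fact.mk Nat.prime_two
  have hTI' : ∀ a b : G, ∀ z : G, z ≠ 1 → z ∈ cj a (T : Subgroup G) → z ∈ cj b (T : Subgroup G) →
      cj a (T : Subgroup G) = cj b (T : Subgroup G) := by
    intro a b z hz ha hb
    by_contra hne
    have h1 : cj (b⁻¹ * a) (T : Subgroup G) ≠ T := by
      intro h
      apply hne
      have := congrArg (cj b) h
      rwa [← cj_mul, mul_inv_cancel_left] at this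
    have h2 : cj (b⁻¹ * a) (T : Subgroup G) ⊓ T = ⊥ := hTI (b⁻¹ * a) h1
    have h4 : b⁻¹ * z * b ∈ cj (b⁻¹ * a) (T : Subgroup G) := by
      rw [cj_mul, mem_cj, inv_inv]
      have : b * (b⁻¹ * z * b) * b⁻¹ = z := by group
      rw [this]; exact ha
    have h3 : b⁻¹ * z * b ∈ cj (b⁻¹ * a) (T : Subgroup G) ⊓ T := ⟨h4, mem_cj.mp hb⟩
    rw [h2, Subgroup.mem_bot] at h3
    apply hz
    calc z = b * (b⁻¹ * z * b) * b⁻¹ := by group
      _ = 1 := by rw [h3]; group
  by_contra hnc
  -- for x conj to s and y conj to t, x and y lie in a common conjugate of T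
  have hcommon : ∀ x y : G, IsConj s x → IsConj t y → ∃ a, x ∈ cj a (T : Subgroup G) ∧
      y ∈ cj a (T : Subgroup G) := by
    intro x y hx hy
    have hxo : orderOf x = 2 := by
      obtain ⟨g, rfl⟩ := isConj_iff.mp hx
      rw [orderOf_conj', hs]
    have hyo : orderOf y = 2 := by
      obtain ⟨g, rfl⟩ := isConj_iff.mp hy
      rw [orderOf_conj', ht]
    have hx2 := mul_self_of_orderOf_two hxo
    have hy2 := mul_self_of_orderOf_two hyo
    have heven : Even (orderOf (x * y)) := by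
      rw [← Nat.not_odd_iff_even]
      intro hodd
      obtain ⟨d, -, hd⟩ := exists_conj_of_odd hx2 hy2 hodd
      exact hnc ((hx.trans (isConj_iff.mpr ⟨d, hd⟩)).trans hy.symm)
    have hz := orderOf_pow_half heven (orderOf_pos (x * y))
    set z := (x * y) ^ (orderOf (x * y) / 2) with hzdef
    have hzx : Commute z x := conj_pow_half_left hx2 hy2 heven
    have hzy : Commute z y := conj_pow_half_right hx2 hy2 heven
    have hmem : ∀ w : G, orderOf w = 2 → Commute z w → ∃ a, z ∈ cj a (T : Subgroup G) ∧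
        w ∈ cj a (T : Subgroup G) := by
      intro w hw hc
      obtain ⟨k, hk⟩ := exists_conj_mem_sylow T (isPGroup_closure_of_commute hz hw hc)
      rw [cj_le_iff] at hk
      exact ⟨k⁻¹, hk (Subgroup.subset_closure (by simp)), hk (Subgroup.subset_closure (by simp))⟩
    obtain ⟨a, ha1, ha2⟩ := hmem x hxo hzx
    obtain ⟨b, hb1, hb2⟩ := hmem y hyo hzy
    have hab := hTI' a b z (ne_one_of_orderOf_two hz) ha1 hb1
    exact ⟨a, ha2, hab ▸ hb2⟩
  -- s lies in cj a T; all conjugates of t lie there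
  obtain ⟨a, ha, -⟩ := hcommon s t (IsConj.refl s) (IsConj.refl t)
  have hall : ∀ y, IsConj t y → y ∈ cj a (T : Subgroup G) := by
    intro y hy
    obtain ⟨b, hb1, hb2⟩ := hcommon s y (IsConj.refl s) hy
    rw [hTI' a b s (ne_one_of_orderOf_two hs) ha hb1]
    exact hb2
  apply hnn
  have hsame : ∀ g : G, cj g (cj a (T : Subgroup G)) = cj a (T : Subgroup G) := by
    intro g
    rw [← cj_mul]
    refine hTI' (g * a) a t (ne_one_of_orderOf_two ht) ?_ (hall t (IsConj.refl t))
    rw [cj_mul, mem_cj]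
    exact hall _ (isConj_iff.mpr ⟨g⁻¹, by simp⟩)
  have hT : ∀ g : G, cj g (T : Subgroup G) = T := by
    intro g
    apply cj_injective a
    change cj a (cj g (T : Subgroup G)) = cj a (T : Subgroup G)
    have h1 := hsame (a * g * a⁻¹)
    rw [← cj_mul] at h1
    rw [← cj_mul]
    have h2 : a * g * a⁻¹ * a = a * g := by group
    rwa [h2] at h1
  constructor
  intro n hn g
  have h1 := hT g
  rw [← h1, mem_cj]
  have : g⁻¹ * (g * n * g⁻¹) * g = n := by group
  rw [this]; exact hn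


/-- transport of the pair count under conjugation -/
theorem card_pairs_conj (x₁ x₂ : G) {z w : G} (h : IsConj z w) :
    Nat.card {p : G × G // IsConj x₁ p.1 ∧ IsConj x₂ p.2 ∧ z ∈ Subgroup.zpowers (p.1 * p.2)} =
    Nat.card {p : G × G // IsConj x₁ p.1 ∧ IsConj x₂ p.2 ∧ w ∈ Subgroup.zpowers (p.1 * p.2)} := by
  obtain ⟨g, hg⟩ := isConj_iff.mp h
  have key : ∀ (g z w : G), g * z * g⁻¹ = w → ∀ p : G × G,
      (IsConj x₁ p.1 ∧ IsConj x₂ p.2 ∧ z ∈ Subgroup.zpowers (p.1 * p.2)) →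
      (IsConj x₁ (g * p.1 * g⁻¹) ∧ IsConj x₂ (g * p.2 * g⁻¹) ∧
        w ∈ Subgroup.zpowers ((g * p.1 * g⁻¹) * (g * p.2 * g⁻¹))) := by
    rintro g z w rfl p ⟨h1, h2, h3⟩
    refine ⟨h1.trans (isConj_iff.mpr ⟨g, rfl⟩), h2.trans (isConj_iff.mpr ⟨g, rfl⟩), ?_⟩
    rw [Subgroup.mem_zpowers_iff] at h3 ⊢
    obtain ⟨k, hk⟩ := h3
    refine ⟨k, ?_⟩
    have : (g * p.1 * g⁻¹) * (g * p.2 * g⁻¹) = g * (p.1 * p.2) * g⁻¹ := by group
    rw [this, conj_zpow, hk]
  refine Nat.card_congr
    { toFun := fun p => ⟨(g * p.1.1 * g⁻¹, g * p.1.2 * g⁻¹), key g z w hg p.1 p.2⟩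
      invFun := fun p => ⟨(g⁻¹ * p.1.1 * g⁻¹⁻¹, g⁻¹ * p.1.2 * g⁻¹⁻¹), key g⁻¹ w z (by
        rw [← hg]; group) p.1 p.2⟩
      left_inv := ?_
      right_inv := ?_ }
  · rintro ⟨⟨a, b⟩, h⟩
    apply Subtype.ext
    apply Prod.ext
    · change g⁻¹ * (g * a * g⁻¹) * g⁻¹⁻¹ = a; group
    · change g⁻¹ * (g * b * g⁻¹) * g⁻¹⁻¹ = b; group
  · rintro ⟨⟨a, b⟩, h⟩
    apply Subtype.ext
    apply Prod.ext
    · change g * (g⁻¹ * a * g⁻¹⁻¹) * g⁻¹ = a; group
    · change g * (g⁻¹ * b * g⁻¹⁻¹) * g⁻¹ = b; group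

/-- orbit-stabilizer for conjugacy classes -/
theorem card_conj_mul_card_centralizer (x : G) :
    Nat.card {u : G // IsConj x u} * Nat.card (Subgroup.centralizer ({x} : Set G)) = Nat.card G := by
  have h : Nat.card {u : G // IsConj x u} = (Subgroup.centralizer ({x} : Set G)).index := by
    unfold Subgroup.index
    symm
    refine Nat.card_congr (Equiv.ofBijective
      (fun q : G ⧸ Subgroup.centralizer ({x} : Set G) =>
        Quotient.liftOn' q (fun g => (⟨g * x * g⁻¹, isConj_iff.mpr ⟨g, rfl⟩⟩ :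
          {u : G // IsConj x u})) ?_) ⟨?_, ?_⟩)
    · intro a b hab
      rw [QuotientGroup.leftRel_apply, mem_centralizer_singleton'] at hab
      apply Subtype.ext
      calc a * x * a⁻¹ = a * (a⁻¹ * b * x * (a⁻¹ * b)⁻¹) * a⁻¹ := by rw [hab]
        _ = b * x * b⁻¹ := by group
    · intro q₁ q₂
      induction q₁ using QuotientGroup.induction_on with | _ a
      induction q₂ using QuotientGroup.induction_on with | _ b
      intro h
      have h' : a * x * a⁻¹ = b * x * b⁻¹ := congrArg Subtype.val h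
      rw [QuotientGroup.eq, mem_centralizer_singleton']
      calc a⁻¹ * b * x * (a⁻¹ * b)⁻¹ = a⁻¹ * (b * x * b⁻¹) * a := by group
        _ = a⁻¹ * (a * x * a⁻¹) * a := by rw [h']
        _ = x := by group
    · rintro ⟨u, hu⟩
      obtain ⟨g, hg⟩ := isConj_iff.mp hu
      refine ⟨(g : G ⧸ Subgroup.centralizer ({x} : Set G)), ?_⟩
      apply Subtype.ext
      exact hg
  rw [h, Subgroup.index_mul_card]

/-- S0213: Thompson order formula -/
theorem thompson_order_formula (x₁ x₂ : G) (h₁ : orderOf x₁ = 2) (h₂ : orderOf x₂ = 2)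
    (hnc : ¬ IsConj x₁ x₂) (hall : ∀ t : G, orderOf t = 2 → IsConj x₁ t ∨ IsConj x₂ t) :
    Nat.card G = Nat.card (Subgroup.centralizer ({x₂} : Set G)) * Nat.card {p : G × G //
        IsConj x₁ p.1 ∧ IsConj x₂ p.2 ∧ x₁ ∈ Subgroup.zpowers (p.1 * p.2)} +
      Nat.card (Subgroup.centralizer ({x₁} : Set G)) * Nat.card {p : G × G //
        IsConj x₁ p.1 ∧ IsConj x₂ p.2 ∧ x₂ ∈ Subgroup.zpowers (p.1 * p.2)} := by
  classical
  set K₁ := Nat.card {u : G // IsConj x₁ u} with hK₁
  set K₂ := Nat.card {u : G // IsConj x₂ u} with hK₂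
  set c₁ := Nat.card (Subgroup.centralizer ({x₁} : Set G)) with hc₁
  set c₂ := Nat.card (Subgroup.centralizer ({x₂} : Set G)) with hc₂
  have e₁ : K₁ * c₁ = Nat.card G := card_conj_mul_card_centralizer x₁
  have e₂ : K₂ * c₂ = Nat.card G := card_conj_mul_card_centralizer x₂
  -- order of products
  have heven : ∀ u v : G, IsConj x₁ u → IsConj x₂ v → orderOf u = 2 ∧ orderOf v = 2 ∧
      Even (orderOf (u * v)) := by
    intro u v hu hv
    have huo : orderOf u = 2 := by
      obtain ⟨g, rfl⟩ := isConj_iff.mp hu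
      rw [orderOf_conj', h₁]
    have hvo : orderOf v = 2 := by
      obtain ⟨g, rfl⟩ := isConj_iff.mp hv
      rw [orderOf_conj', h₂]
    refine ⟨huo, hvo, ?_⟩
    rw [← Nat.not_odd_iff_even]
    intro hodd
    obtain ⟨d, -, hd⟩ := exists_conj_of_odd (mul_self_of_orderOf_two huo)
      (mul_self_of_orderOf_two hvo) hodd
    exact hnc ((hu.trans (isConj_iff.mpr ⟨d, hd⟩)).trans hv.symm)
  -- the unique involution in a cyclic group
  have huniq : ∀ w z : G, Even (orderOf w) → orderOf z = 2 → z ∈ Subgroup.zpowers w →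
      z = w ^ (orderOf w / 2) := by
    intro w z hw hz hzw
    have hcyc : IsCyclic (Subgroup.zpowers w) := inferInstance
    have hm : w ^ (orderOf w / 2) ∈ Subgroup.zpowers w := Subgroup.pow_mem _ (Subgroup.mem_zpowers w) _
    have ho := orderOf_pow_half hw (orderOf_pos w)
    have := Fintype.ofFinite (Subgroup.zpowers w)
    have hc := IsCyclic.card_pow_eq_one_le (α := Subgroup.zpowers w) (n := 2) (by norm_num)
    by_contra hne
    have hsub : ({1, ⟨z, hzw⟩, ⟨_, hm⟩} : Finset (Subgroup.zpowers w)) ⊆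
        Finset.univ.filter (fun a => a ^ 2 = 1) := by
      intro a ha
      simp only [Finset.mem_insert, Finset.mem_singleton] at ha
      simp only [Finset.mem_filter, Finset.mem_univ, true_and]
      rcases ha with rfl | rfl | rfl
      · exact one_pow 2
      · apply Subtype.ext
        change z ^ 2 = 1
        rw [← orderOf_dvd_iff_pow_eq_one, hz]
      · apply Subtype.ext
        change (w ^ (orderOf w / 2)) ^ 2 = 1
        rw [← orderOf_dvd_iff_pow_eq_one, ho]
    have hcard : ({1, ⟨z, hzw⟩, ⟨_, hm⟩} : Finset (Subgroup.zpowers w)).card = 3 := by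
      rw [Finset.card_insert_of_notMem, Finset.card_insert_of_notMem, Finset.card_singleton]
      · simpa using hne
      · simp only [Finset.mem_insert, Finset.mem_singleton, not_or]
        exact ⟨fun h => ne_one_of_orderOf_two hz (congrArg Subtype.val h).symm,
          fun h => ne_one_of_orderOf_two ho (congrArg Subtype.val h).symm⟩
    have := Finset.card_le_card hsub
    omega
  -- the big bijection
  have htotal : K₁ * K₂ = K₁ * Nat.card {p : G × G //
        IsConj x₁ p.1 ∧ IsConj x₂ p.2 ∧ x₁ ∈ Subgroup.zpowers (p.1 * p.2)} +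
      K₂ * Nat.card {p : G × G //
        IsConj x₁ p.1 ∧ IsConj x₂ p.2 ∧ x₂ ∈ Subgroup.zpowers (p.1 * p.2)} := by
    have e : ({u : G // IsConj x₁ u} × {u : G // IsConj x₂ u}) ≃
        (Σ z : {u : G // IsConj x₁ u}, {p : G × G //
          IsConj x₁ p.1 ∧ IsConj x₂ p.2 ∧ z.1 ∈ Subgroup.zpowers (p.1 * p.2)}) ⊕
        (Σ z : {u : G // IsConj x₂ u}, {p : G × G //
          IsConj x₁ p.1 ∧ IsConj x₂ p.2 ∧ z.1 ∈ Subgroup.zpowers (p.1 * p.2)}) :=
      { toFun := fun q =>
          let w := q.1.1 * q.2.1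
          let z := w ^ (orderOf w / 2)
          have hq := heven q.1.1 q.2.1 q.1.2 q.2.2
          have hzm : z ∈ Subgroup.zpowers w := Subgroup.pow_mem _ (Subgroup.mem_zpowers w) _
          if h : IsConj x₁ z then
            Sum.inl ⟨⟨z, h⟩, ⟨(q.1.1, q.2.1), q.1.2, q.2.2, hzm⟩⟩
          else
            Sum.inr ⟨⟨z, (hall z (orderOf_pow_half hq.2.2 (orderOf_pos _))).resolve_left h⟩,
              ⟨(q.1.1, q.2.1), q.1.2, q.2.2, hzm⟩⟩
        invFun := fun s => match s with
          | Sum.inl p => (⟨p.2.1.1, p.2.2.1⟩, ⟨p.2.1.2, p.2.2.2.1⟩)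
          | Sum.inr p => (⟨p.2.1.1, p.2.2.1⟩, ⟨p.2.1.2, p.2.2.2.1⟩)
        left_inv := by
          rintro ⟨⟨u, hu⟩, ⟨v, hv⟩⟩
          by_cases h : IsConj x₁ ((u * v) ^ (orderOf (u * v) / 2))
          · simp only [dif_pos h]
          · simp only [dif_neg h]
        right_inv := by
          rintro (⟨⟨z, hz⟩, ⟨⟨u, v⟩, hu, hv, hm⟩⟩ | ⟨⟨z, hz⟩, ⟨⟨u, v⟩, hu, hv, hm⟩⟩)
          · have hzo : orderOf z = 2 := by
              obtain ⟨g, rfl⟩ := isConj_iff.mp hz
              rw [orderOf_conj', h₁]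
            obtain rfl := huniq (u * v) z (heven u v hu hv).2.2 hzo hm
            simp only [dif_pos hz]
          · have hzo : orderOf z = 2 := by
              obtain ⟨g, rfl⟩ := isConj_iff.mp hz
              rw [orderOf_conj', h₂]
            obtain rfl := huniq (u * v) z (heven u v hu hv).2.2 hzo hm
            have hn : ¬ IsConj x₁ ((u * v) ^ (orderOf (u * v) / 2)) := fun h =>
              hnc (h.trans hz.symm)
            simp only [dif_neg hn] }
    have hf1 := Fintype.ofFinite {u : G // IsConj x₁ u}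
    have hf2 := Fintype.ofFinite {u : G // IsConj x₂ u}
    have hc := Nat.card_congr e
    rw [Nat.card_prod, Nat.card_sum, Nat.card_sigma, Nat.card_sigma] at hc
    have hs1 : ∀ z : {u : G // IsConj x₁ u}, Nat.card {p : G × G //
          IsConj x₁ p.1 ∧ IsConj x₂ p.2 ∧ z.1 ∈ Subgroup.zpowers (p.1 * p.2)} =
        Nat.card {p : G × G //
          IsConj x₁ p.1 ∧ IsConj x₂ p.2 ∧ x₁ ∈ Subgroup.zpowers (p.1 * p.2)} :=
      fun z => card_pairs_conj x₁ x₂ z.2.symm
    have hs2 : ∀ z : {u : G // IsConj x₂ u}, Nat.card {p : G × G //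
          IsConj x₁ p.1 ∧ IsConj x₂ p.2 ∧ z.1 ∈ Subgroup.zpowers (p.1 * p.2)} =
        Nat.card {p : G × G //
          IsConj x₁ p.1 ∧ IsConj x₂ p.2 ∧ x₂ ∈ Subgroup.zpowers (p.1 * p.2)} :=
      fun z => card_pairs_conj x₁ x₂ z.2.symm
    rw [← hK₁, ← hK₂] at hc
    rw [hc]
    congr 1
    · rw [Finset.sum_congr rfl (fun z _ => hs1 z), Finset.sum_const, Finset.card_univ, smul_eq_mul,
        ← Nat.card_eq_fintype_card]
    · rw [Finset.sum_congr rfl (fun z _ => hs2 z), Finset.sum_const, Finset.card_univ, smul_eq_mul,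
        ← Nat.card_eq_fintype_card]
  set n₁ := Nat.card {p : G × G //
        IsConj x₁ p.1 ∧ IsConj x₂ p.2 ∧ x₁ ∈ Subgroup.zpowers (p.1 * p.2)}
  set n₂ := Nat.card {p : G × G //
        IsConj x₁ p.1 ∧ IsConj x₂ p.2 ∧ x₂ ∈ Subgroup.zpowers (p.1 * p.2)}
  have hpos : 0 < Nat.card G := Nat.card_pos
  apply Nat.eq_of_mul_eq_mul_left hpos
  calc Nat.card G * Nat.card G = (K₁ * K₂) * (c₁ * c₂) := by
        nth_rewrite 1 [← e₁]; rw [← e₂]; ring
    _ = (K₁ * n₁ + K₂ * n₂) * (c₁ * c₂) := by rw [htotal]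
    _ = (K₁ * c₁) * (c₂ * n₁) + (K₂ * c₂) * (c₁ * n₂) := by ring
    _ = Nat.card G * (c₂ * n₁ + c₁ * n₂) := by rw [e₁, e₂]; ring

end Cfsg.Agent.H80
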