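import Cfsg.Agent.H80.L34c
import Cfsg.Agent.S2503

/-! Matrix part, quotient level. -/

set_option autoImplicit false
set_option linter.style.haveILetI false

namespace Cfsg.Agent.H80.L34

open Matrix

variable {F : Type*} [Field F]

abbrev S3 (F : Type*) [Field F] := Matrix.SpecialLinearGroup (Fin 3) F
abbrev P3 (F : Type*) [Field F] := Matrix.ProjectiveSpecialLinearGroup (Fin 3) F

/-- quotient map -/
def qq : S3 F →* P3 F := QuotientGroup.mk' (Subgroup.center (S3 F))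

theorem qq_surj : Function.Surjective (qq (F := F)) := QuotientGroup.mk'_surjective _

theorem qq_eq {g h : S3 F} (e : qq g = qq h) : ∃ r : F, h.1 = r • g.1 := by
  have h1 : g⁻¹ * h ∈ Subgroup.center (S3 F) := QuotientGroup.eq.1 e
  rw [Matrix.SpecialLinearGroup.mem_center_iff] at h1
  obtain ⟨r, _, hr⟩ := h1
  refine ⟨r, ?_⟩
  have h2 : h = g * (g⁻¹ * h) := by group
  have h3 : h.1 = g.1 * (g⁻¹ * h).1 := congrArg Subtype.val h2
  have h4 : (g⁻¹ * h).1 = Matrix.scalar (Fin 3) r := hr.symm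
  rw [h3, h4, ← Matrix.scalar_comm r (fun r' => mul_comm r r') g.1]
  ext i j
  simp [Matrix.scalar_apply, Matrix.diagonal_mul]

theorem qq_of_center {g z : S3 F} (hz : z ∈ Subgroup.center (S3 F)) : qq (g * z) = qq g := by
  rw [map_mul]
  have : qq z = 1 := (QuotientGroup.eq_one_iff z).2 hz
  rw [this, mul_one]

theorem uu_qq_inj {a b c a' b' c' : F} (h : qq (uu a b c) = qq (uu a' b' c')) :
    a = a' ∧ b = b' ∧ c = c' := by
  obtain ⟨r, hr⟩ := qq_eq h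
  have h22 : (1 : F) = r * 1 := congrFun (congrFun hr 2) 2
  have hr1 : r = 1 := by rw [mul_one] at h22; exact h22.symm
  rw [hr1, one_smul] at hr
  have := uu_inj (s3_ext (a := uu a' b' c') (b := uu a b c) hr)
  exact ⟨this.1.symm, this.2.1.symm, this.2.2.symm⟩

variable (h2 : (2 : F) = 0)

/-- the subgroup `E1` of the quotient -/
def E1 : Subgroup (P3 F) where
  carrier := {x | ∃ b c, x = qq (uu 0 b c)}
  mul_mem' := by
    rintro _ _ ⟨b, c, rfl⟩ ⟨b', c', rfl⟩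
    exact ⟨b + b' + 0 * c', c + c', by rw [← map_mul, uu_mul, add_zero]⟩
  one_mem' := ⟨0, 0, by rw [uu_zero, map_one]⟩
  inv_mem' := by
    rintro _ ⟨b, c, rfl⟩
    refine ⟨-b, -c, ?_⟩
    rw [inv_eq_iff_mul_eq_one, ← map_mul, uu_mul]
    simp [uu_zero]

/-- the subgroup `E2` of the quotient -/
def E2 : Subgroup (P3 F) where
  carrier := {x | ∃ a b, x = qq (uu a b 0)}
  mul_mem' := by
    rintro _ _ ⟨b, c, rfl⟩ ⟨b', c', rfl⟩
    exact ⟨b + b', c + c' + b * 0, by rw [← map_mul, uu_mul, add_zero]⟩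
  one_mem' := ⟨0, 0, by rw [uu_zero, map_one]⟩
  inv_mem' := by
    rintro _ ⟨b, c, rfl⟩
    refine ⟨-b, -c, ?_⟩
    rw [inv_eq_iff_mul_eq_one, ← map_mul, uu_mul]
    simp [uu_zero]

/-- the unitriangular subgroup -/
def UU : Subgroup (P3 F) where
  carrier := {x | ∃ a b c, x = qq (uu a b c)}
  mul_mem' := by
    rintro _ _ ⟨a, b, c, rfl⟩ ⟨a', b', c', rfl⟩
    exact ⟨_, _, _, by rw [← map_mul, uu_mul]⟩
  one_mem' := ⟨0, 0, 0, by rw [uu_zero, map_one]⟩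
  inv_mem' := by
    rintro _ ⟨a, b, c, rfl⟩
    refine ⟨-a, -b + a * c, -c, ?_⟩
    rw [inv_eq_iff_mul_eq_one, ← map_mul, uu_mul]
    have : b + (-b + a * c) + a * -c = 0 := by ring
    rw [this]
    simp [uu_zero]

def SS : Subgroup (P3 F) := (qq.comp sg).range

theorem mem_E1 {x : P3 F} : x ∈ E1 ↔ ∃ b c, x = qq (uu 0 b c) := Iff.rfl
theorem mem_E2 {x : P3 F} : x ∈ E2 ↔ ∃ a b, x = qq (uu a b 0) := Iff.rfl
theorem mem_UU {x : P3 F} : x ∈ UU ↔ ∃ a b c, x = qq (uu a b c) := Iff.rfl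

theorem sg_conj' (A : Matrix.SpecialLinearGroup (Fin 2) F) (b c : F) :
    qq (sg A) * qq (uu 0 b c) * (qq (sg A))⁻¹ =
      qq (uu 0 (A.1 0 0 * b + A.1 0 1 * c) (A.1 1 0 * b + A.1 1 1 * c)) := by
  rw [← map_mul, sg_conj, map_mul, mul_inv_cancel_right]

theorem qq_ne {b c : F} (h : qq (uu 0 b c) ≠ 1) : ¬ (b = 0 ∧ c = 0) := by
  rintro ⟨rfl, rfl⟩
  exact h (by rw [uu_zero, map_one])

theorem qq_ne' {a b c : F} (h : ¬ (a = 0 ∧ b = 0 ∧ c = 0)) : qq (uu a b c) ≠ 1 := by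
  intro h1
  apply h
  rw [← map_one qq, ← uu_zero] at h1
  exact uu_qq_inj h1

theorem exists_A {b c : F} (h : ¬ (b = 0 ∧ c = 0)) :
    ∃ A : Matrix.SpecialLinearGroup (Fin 2) F, A.1 0 0 = b ∧ A.1 1 0 = c := by
  by_cases hb : b = 0
  · have hc : c ≠ 0 := fun hc => h ⟨hb, hc⟩
    exact ⟨⟨!![b, -c⁻¹; c, 0], by rw [Matrix.det_fin_two_of]; field_simp; ring⟩, rfl, rfl⟩
  · exact ⟨⟨!![b, 0; c, b⁻¹], by rw [Matrix.det_fin_two_of]; field_simp; ring⟩, rfl, rfl⟩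

theorem exists_conj_of_ne {b c : F} (h : ¬ (b = 0 ∧ c = 0)) :
    ∃ s ∈ (SS : Subgroup (P3 F)), s * qq (uu 0 1 0) * s⁻¹ = qq (uu 0 b c) := by
  obtain ⟨A, hA, hA'⟩ := exists_A h
  refine ⟨qq (sg A), ⟨A, rfl⟩, ?_⟩
  rw [sg_conj', hA, hA']
  simp

theorem gen_E1 (h3 : ∀ x : F, x ≠ 0 → x ^ 3 = 1) (l : P3 F)
    (hl : ∀ e ∈ (E1 : Subgroup (P3 F)), l * e * l⁻¹ ∈ (E1 : Subgroup (P3 F))) :
    ∃ e ∈ (E1 : Subgroup (P3 F)), ∃ s ∈ (SS : Subgroup (P3 F)), l = e * s := by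
  obtain ⟨g, rfl⟩ := qq_surj l
  have key : ∀ x y : F, ∃ b c r : F, g.1 * (uu 0 x y).1 = r • ((uu 0 b c).1 * g.1) := by
    intro x y
    obtain ⟨b, c, h⟩ := hl (qq (uu 0 x y)) ⟨x, y, rfl⟩
    rw [mul_inv_eq_iff_eq_mul, ← map_mul, ← map_mul] at h
    obtain ⟨r, hr⟩ := qq_eq h.symm
    exact ⟨b, c, r, hr⟩
  obtain ⟨b, c, r, h1⟩ := key 1 0
  obtain ⟨b', c', r', h2⟩ := key 0 1
  obtain ⟨g0, g1⟩ := gen_aux h1 h2
  obtain ⟨z, hz, b, c, A, h⟩ := par_dec h3 g0 g1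
  exact ⟨qq (uu 0 b c), ⟨b, c, rfl⟩, qq (sg A), ⟨A, rfl⟩, by rw [h, qq_of_center hz, map_mul]⟩

theorem par_E1 (h2 : (2 : F) = 0) (h3 : ∀ x : F, x ≠ 0 → x ^ 3 = 1) (hw : ∃ w : F, w ≠ 0 ∧ w ≠ 1) :
    Par (E1 : Subgroup (P3 F)) SS where
  disj := by
    rintro _ ⟨b, c, rfl⟩ ⟨A, hA⟩
    obtain ⟨r, hr⟩ := qq_eq (g := sg A) (h := uu 0 b c) hA
    rw [sg_coe] at hr
    have h22 : (1 : F) = r * 1 := congrFun (congrFun hr 2) 2
    have h02 : b = r * 0 := congrFun (congrFun hr 0) 2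
    have h12 : c = r * 0 := congrFun (congrFun hr 1) 2
    rw [mul_zero] at h02 h12
    rw [h02, h12, uu_zero, map_one]
  norm := by
    rintro _ ⟨A, rfl⟩ _ ⟨b, c, rfl⟩
    exact ⟨_, _, sg_conj' A b c⟩
  gen := gen_E1 h3
  cent := by
    intro l hl
    obtain ⟨e, he, s, hs, rfl⟩ := gen_E1 h3 l (by
      intro e he
      rw [hl e he, mul_inv_cancel_right]; exact he)
    obtain ⟨A, rfl⟩ := hs
    have hcomm : ∀ x y : F, qq (uu 0 (A.1 0 0 * x + A.1 0 1 * y) (A.1 1 0 * x + A.1 1 1 * y)) =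
        qq (uu 0 x y) := by
      intro x y
      rw [← sg_conj', mul_inv_eq_iff_eq_mul]
      have h1 := hl (qq (uu 0 x y)) ⟨x, y, rfl⟩
      obtain ⟨b, c, rfl⟩ := he
      have h4 : qq (uu 0 b c) * qq (uu 0 x y) = qq (uu 0 x y) * qq (uu 0 b c) := by
        rw [← map_mul, ← map_mul, uu_mul, uu_mul]
        congr 2 <;> ring
      have h5 : qq (uu 0 b c) * (qq (sg A) * qq (uu 0 x y)) =
          qq (uu 0 b c) * (qq (uu 0 x y) * qq (sg A)) := by
        calc qq (uu 0 b c) * (qq (sg A) * qq (uu 0 x y))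
            = qq (uu 0 b c) * qq (sg A) * qq (uu 0 x y) := by rw [mul_assoc]
          _ = qq (uu 0 x y) * (qq (uu 0 b c) * qq (sg A)) := h1
          _ = qq (uu 0 b c) * (qq (uu 0 x y) * qq (sg A)) := by
            rw [← mul_assoc, ← h4, mul_assoc]
      exact mul_left_cancel h5
    obtain ⟨_, h00, h10⟩ := uu_qq_inj (hcomm 1 0)
    obtain ⟨_, h01, h11⟩ := uu_qq_inj (hcomm 0 1)
    simp only [mul_one, mul_zero, add_zero, zero_add] at h00 h10 h01 h11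
    have hA : A = 1 := by
      apply s3_ext
      ext i j
      fin_cases i <;> fin_cases j <;> simp [h00, h10, h01, h11]
    rw [hA]
    have : (qq.comp sg) (1 : Matrix.SpecialLinearGroup (Fin 2) F) = 1 := map_one _
    rw [this, mul_one]
    exact he
  trans := by
    rintro _ ⟨b, c, rfl⟩ _ ⟨b', c', rfl⟩ h1 h1'
    obtain ⟨s, hs, h⟩ := exists_conj_of_ne (qq_ne h1)
    obtain ⟨s', hs', h'⟩ := exists_conj_of_ne (qq_ne h1')
    refine ⟨s' * s⁻¹, SS.mul_mem hs' (SS.inv_mem hs), ?_⟩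
    rw [← h, ← h']
    group
  comm := by
    rintro _ ⟨b, c, rfl⟩ _ ⟨b', c', rfl⟩
    rw [← map_mul, ← map_mul, uu_mul, uu_mul]
    congr 2 <;> ring
  sq := by
    rintro _ ⟨b, c, rfl⟩
    rw [← map_mul, uu_mul]
    have e1 : (0 : F) + 0 = 0 := by ring
    have e2 : b + b + 0 * c = 0 := by linear_combination b * h2
    have e3 : c + c = 0 := by linear_combination c * h2
    rw [e1, e2, e3, uu_zero, map_one]
  big := by
    obtain ⟨w, hw0, hw1⟩ := hw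
    refine ⟨_, ⟨1, 0, rfl⟩, _, ⟨0, 1, rfl⟩, _, ⟨w, 0, rfl⟩, ?_, ?_, ?_, ?_, ?_, ?_, ?_⟩
    · exact qq_ne' (by simp)
    · exact qq_ne' (by simp)
    · rw [← map_mul, uu_mul]; exact qq_ne' (by simp)
    · exact qq_ne' (by simp [hw0])
    · rw [← map_mul, uu_mul]
      refine qq_ne' ?_
      rintro ⟨_, h, _⟩
      apply hw1
      linear_combination h - h2
    · rw [← map_mul, uu_mul]; exact qq_ne' (by simp)
    · rw [← map_mul, ← map_mul, uu_mul, uu_mul]; exact qq_ne' (by simp)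

/-! ### duality -/

/-- the antidiagonal permutation matrix (characteristic 2) -/
def ww (h2 : (2 : F) = 0) : S3 F :=
  ⟨!![0, 0, 1; 0, 1, 0; 1, 0, 0], by rw [Matrix.det_fin_three]; simp; linear_combination -h2⟩

/-- inverse transpose -/
def itr (g : S3 F) : S3 F := ⟨(g⁻¹).1ᵀ, by rw [Matrix.det_transpose]; exact (g⁻¹).2⟩

theorem itr_coe (g : S3 F) : (itr g).1 = (g⁻¹).1ᵀ := rfl

theorem itr_inv (g : S3 F) : ((itr g)⁻¹).1 = g.1ᵀ := by
  have h : (itr g)⁻¹ = ⟨g.1ᵀ, by rw [Matrix.det_transpose]; exact g.2⟩ := by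
    refine _root_.inv_eq_of_mul_eq_one_right (s3_ext ?_)
    show (g⁻¹).1ᵀ * g.1ᵀ = 1
    rw [← Matrix.transpose_mul]
    have : g.1 * (g⁻¹).1 = 1 := congrArg Subtype.val (mul_inv_cancel g)
    rw [this, Matrix.transpose_one]
  rw [h]

theorem itr_itr (g : S3 F) : itr (itr g) = g := by
  apply s3_ext
  rw [itr_coe, itr_inv]
  exact Matrix.transpose_transpose _

/-- inverse transpose -/
def tau : S3 F ≃* S3 F where
  toFun := itr
  invFun := itr
  left_inv := itr_itr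
  right_inv := itr_itr
  map_mul' g h := by
    apply s3_ext
    show ((g * h)⁻¹).1ᵀ = (g⁻¹).1ᵀ * (h⁻¹).1ᵀ
    rw [← Matrix.transpose_mul, _root_.mul_inv_rev]
    rfl

/-- the graph automorphism of `SL3` -/
def kap (h2 : (2 : F) = 0) : S3 F ≃* S3 F := tau.trans (MulAut.conj (ww h2))

theorem uu_inv (a b c : F) : (uu a b c)⁻¹ = uu (-a) (-b + a * c) (-c) := by
  rw [inv_eq_iff_mul_eq_one, uu_mul]
  have : b + (-b + a * c) + a * -c = 0 := by ring
  rw [this]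
  simp [uu_zero]

theorem kap_uu (h2 : (2 : F) = 0) (b c : F) : kap h2 (uu 0 b c) = uu (-c) (-b) 0 := by
  show ww h2 * tau (uu 0 b c) * (ww h2)⁻¹ = _
  rw [mul_inv_eq_iff_eq_mul]
  apply s3_ext
  show !![0, 0, 1; 0, 1, 0; 1, 0, 0] * ((uu 0 b c)⁻¹).1ᵀ =
    !![1, -c, -b; 0, 1, 0; 0, 0, 1] * !![0, 0, 1; 0, 1, 0; 1, 0, 0]
  rw [uu_inv]
  show !![0, 0, 1; 0, 1, 0; 1, 0, 0] * (!![1, -0, -b + 0 * c; 0, 1, -c; 0, 0, 1])ᵀ = _
  ext i j
  fin_cases i <;> fin_cases j <;> simp [Matrix.mul_apply, Fin.sum_univ_three]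

/-- the graph automorphism of the quotient -/
def kk (h2 : (2 : F) = 0) : P3 F ≃* P3 F :=
  QuotientGroup.congr (Subgroup.center (S3 F)) (Subgroup.center (S3 F)) (kap h2)
    (Subgroup.characteristic_iff_map_eq.1 inferInstance (kap h2))

theorem kk_qq (h2 : (2 : F) = 0) (g : S3 F) : kk h2 (qq g) = qq (kap h2 g) := rfl

theorem map_E1 (h2 : (2 : F) = 0) : (E1 : Subgroup (P3 F)).map (kk h2).toMonoidHom = E2 := by
  ext x
  constructor
  · rintro ⟨_, ⟨b, c, rfl⟩, rfl⟩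
    refine ⟨-c, -b, ?_⟩
    show kk h2 (qq (uu 0 b c)) = _
    rw [kk_qq, kap_uu]
  · rintro ⟨a, b, rfl⟩
    refine ⟨qq (uu 0 (-b) (-a)), ⟨_, _, rfl⟩, ?_⟩
    show kk h2 (qq (uu 0 (-b) (-a))) = _
    rw [kk_qq, kap_uu, neg_neg, neg_neg]

theorem par_E2 (h2 : (2 : F) = 0) (h3 : ∀ x : F, x ≠ 0 → x ^ 3 = 1) (hw : ∃ w : F, w ≠ 0 ∧ w ≠ 1) :
    Par (E2 : Subgroup (P3 F)) ((SS : Subgroup (P3 F)).map (kk h2).toMonoidHom) := by
  rw [← map_E1 h2]
  exact (par_E1 h2 h3 hw).map _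

/-- `SS` is `PSL(2,F)` -/
theorem SS_iso (h2 : (2 : F) = 0) :
    Nonempty ((SS : Subgroup (P3 F)) ≃* Matrix.ProjectiveSpecialLinearGroup (Fin 2) F) := by
  have h1 : Function.Injective ((qq (F := F)).comp sg) := by
    rw [injective_iff_map_eq_one]
    intro A hA
    have hA' : qq (sg A) = qq 1 := by rw [map_one]; exact hA
    obtain ⟨r, hr⟩ := qq_eq hA'.symm
    rw [sg_coe] at hr
    have h22 : (1 : F) = r * (1 : Matrix (Fin 3) (Fin 3) F) 2 2 := congrFun (congrFun hr 2) 2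
    have hr1 : r = 1 := by simpa using h22.symm
    rw [hr1, one_smul] at hr
    apply s3_ext
    have h00 := congrFun (congrFun hr 0) 0
    have h01 := congrFun (congrFun hr 0) 1
    have h10 := congrFun (congrFun hr 1) 0
    have h11 := congrFun (congrFun hr 1) 1
    simp at h00 h01 h10 h11
    ext i j
    fin_cases i <;> fin_cases j <;> simp [h00, h10, h01, h11]
  have e1 : Matrix.SpecialLinearGroup (Fin 2) F ≃* (SS : Subgroup (P3 F)) :=
    MonoidHom.ofInjective h1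
  have e2 : Matrix.SpecialLinearGroup (Fin 2) F ≃* Matrix.ProjectiveSpecialLinearGroup (Fin 2) F :=
    MulEquiv.ofBijective (QuotientGroup.mk' (Subgroup.center (Matrix.SpecialLinearGroup (Fin 2) F)))
      ⟨Cfsg.Agent.S2503.mk_inj h2, QuotientGroup.mk'_surjective _⟩
  exact ⟨e1.symm.trans e2⟩

theorem SS_iso' (h2 : (2 : F) = 0) :
    Nonempty (((SS : Subgroup (P3 F)).map (kk h2).toMonoidHom) ≃*
      Matrix.ProjectiveSpecialLinearGroup (Fin 2) F) := by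
  obtain ⟨e⟩ := SS_iso h2
  exact ⟨((SS : Subgroup (P3 F)).equivMapOfInjective _ (kk h2).injective).symm.trans e⟩

/-! ### products and the two elementary abelian subgroups -/

theorem UU_dec {x : P3 F} (hx : x ∈ (UU : Subgroup (P3 F))) :
    (∃ e ∈ (E1 : Subgroup (P3 F)), ∃ f ∈ (E2 : Subgroup (P3 F)), x = e * f) ∧
    (∃ e ∈ (E2 : Subgroup (P3 F)), ∃ f ∈ (E1 : Subgroup (P3 F)), x = e * f) := by
  obtain ⟨a, b, c, rfl⟩ := hx
  refine ⟨⟨qq (uu 0 b c), ⟨_, _, rfl⟩, qq (uu a 0 0), ⟨_, _, rfl⟩, ?_⟩,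
    ⟨qq (uu a (b - a * c) 0), ⟨_, _, rfl⟩, qq (uu 0 0 c), ⟨_, _, rfl⟩, ?_⟩⟩
  · rw [← map_mul, uu_mul]
    congr 2 <;> ring
  · rw [← map_mul, uu_mul]
    congr 2 <;> ring

theorem UU_norm1 {x : P3 F} (hx : x ∈ (UU : Subgroup (P3 F))) :
    x ∈ Subgroup.normalizer ((E1 : Subgroup (P3 F)) : Set (P3 F)) := by
  have key : ∀ x ∈ (UU : Subgroup (P3 F)), ∀ e ∈ (E1 : Subgroup (P3 F)),
      x * e * x⁻¹ ∈ (E1 : Subgroup (P3 F)) := by
    rintro _ ⟨a, b, c, rfl⟩ _ ⟨b', c', rfl⟩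
    refine ⟨b' + a * c', c', ?_⟩
    rw [mul_inv_eq_iff_eq_mul, ← map_mul, ← map_mul, uu_mul, uu_mul]
    congr 2 <;> ring
  rw [Subgroup.mem_normalizer_iff]
  intro e
  refine ⟨key x hx e, fun h => ?_⟩
  have := key x⁻¹ (UU.inv_mem hx) _ h
  have h2 : x⁻¹ * (x * e * x⁻¹) * x⁻¹⁻¹ = e := by group
  rwa [h2] at this

theorem UU_norm2 {x : P3 F} (hx : x ∈ (UU : Subgroup (P3 F))) :
    x ∈ Subgroup.normalizer ((E2 : Subgroup (P3 F)) : Set (P3 F)) := by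
  have key : ∀ x ∈ (UU : Subgroup (P3 F)), ∀ e ∈ (E2 : Subgroup (P3 F)),
      x * e * x⁻¹ ∈ (E2 : Subgroup (P3 F)) := by
    rintro _ ⟨a, b, c, rfl⟩ _ ⟨a', b', rfl⟩
    refine ⟨a', b' - a' * c, ?_⟩
    rw [mul_inv_eq_iff_eq_mul, ← map_mul, ← map_mul, uu_mul, uu_mul]
    congr 2 <;> ring
  rw [Subgroup.mem_normalizer_iff]
  intro e
  refine ⟨key x hx e, fun h => ?_⟩
  have := key x⁻¹ (UU.inv_mem hx) _ h
  have h2 : x⁻¹ * (x * e * x⁻¹) * x⁻¹⁻¹ = e := by group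
  rwa [h2] at this

theorem card_E1 [Fintype F] : Nat.card (E1 : Subgroup (P3 F)) = Fintype.card F * Fintype.card F := by
  have e : F × F ≃ (E1 : Subgroup (P3 F)) :=
    Equiv.ofBijective (fun p => ⟨qq (uu 0 p.1 p.2), ⟨_, _, rfl⟩⟩) ⟨by
      rintro ⟨a, b⟩ ⟨c, d⟩ h
      obtain ⟨_, h1, h2⟩ := uu_qq_inj (congrArg Subtype.val h)
      simp only at h1 h2
      rw [h1, h2], by
      rintro ⟨_, b, c, rfl⟩
      exact ⟨(b, c), rfl⟩⟩
  rw [← Nat.card_congr e, Nat.card_prod, Nat.card_eq_fintype_card]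

theorem card_E2 [Fintype F] : Nat.card (E2 : Subgroup (P3 F)) = Fintype.card F * Fintype.card F := by
  have e : F × F ≃ (E2 : Subgroup (P3 F)) :=
    Equiv.ofBijective (fun p => ⟨qq (uu p.1 p.2 0), ⟨_, _, rfl⟩⟩) ⟨by
      rintro ⟨a, b⟩ ⟨c, d⟩ h
      obtain ⟨h1, h2, _⟩ := uu_qq_inj (congrArg Subtype.val h)
      simp only at h1 h2
      rw [h1, h2], by
      rintro ⟨_, b, c, rfl⟩
      exact ⟨(b, c), rfl⟩⟩
  rw [← Nat.card_congr e, Nat.card_prod, Nat.card_eq_fintype_card]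

theorem card_UU [Fintype F] : Nat.card (UU : Subgroup (P3 F)) =
    Fintype.card F * (Fintype.card F * Fintype.card F) := by
  have e : F × (F × F) ≃ (UU : Subgroup (P3 F)) :=
    Equiv.ofBijective (fun p => ⟨qq (uu p.1 p.2.1 p.2.2), ⟨_, _, _, rfl⟩⟩) ⟨by
      rintro ⟨a, b, b'⟩ ⟨c, d, d'⟩ h
      obtain ⟨h1, h2, h3⟩ := uu_qq_inj (congrArg Subtype.val h)
      simp only at h1 h2 h3
      rw [h1, h2, h3], by
      rintro ⟨_, b, c, d, rfl⟩
      exact ⟨(b, c, d), rfl⟩⟩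
  rw [← Nat.card_congr e, Nat.card_prod, Nat.card_prod, Nat.card_eq_fintype_card]

/-- exponent 2 subgroups of the unitriangular group -/
theorem two_cases [Fintype F] {H : Subgroup (P3 F)} (hH : H ≤ UU) (hsq : ∀ x ∈ H, x * x = 1)
    (hcard : Nat.card H = Fintype.card F * Fintype.card F) : H = E1 ∨ H = E2 := by
  classical
  have hac : ∀ a b c : F, qq (uu a b c) ∈ H → a * c = 0 := by
    intro a b c h
    have h1 := hsq _ h
    rw [← map_mul, uu_mul, ← map_one qq, ← uu_zero] at h1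
    obtain ⟨h2, h3, h4⟩ := uu_qq_inj h1
    -- a + a = 0, b + b + a c = 0
    by_cases hb : (2 : F) = 0
    · linear_combination h3 - b * hb
    · have ha : a = 0 := by
        have : 2 * a = 0 := by linear_combination h2
        exact (mul_eq_zero.1 this).resolve_left hb
      rw [ha, zero_mul]
  have hsub : H ≤ E1 ∨ H ≤ E2 := by
    by_contra hcon
    rw [not_or, SetLike.not_le_iff_exists, SetLike.not_le_iff_exists] at hcon
    obtain ⟨⟨x, hx, hx1⟩, ⟨y, hy, hy2⟩⟩ := hcon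
    obtain ⟨a, b, c, rfl⟩ := hH hx
    obtain ⟨a', b', c', rfl⟩ := hH hy
    have ha : a ≠ 0 := by rintro rfl; exact hx1 ⟨_, _, rfl⟩
    have hc' : c' ≠ 0 := by rintro rfl; exact hy2 ⟨_, _, rfl⟩
    have hc : c = 0 := (mul_eq_zero.1 (hac _ _ _ hx)).resolve_left ha
    have ha' : a' = 0 := (mul_eq_zero.1 (hac _ _ _ hy)).resolve_right hc'
    have h := H.mul_mem hx hy
    rw [← map_mul, uu_mul, hc, ha'] at h
    have := hac _ _ _ h
    rw [add_zero, zero_add] at this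
    exact (mul_ne_zero ha hc') this
  have hfin : Finite (P3 F) := inferInstance
  rcases hsub with h | h
  · left
    exact Subgroup.eq_of_le_of_card_ge h (by rw [hcard, card_E1])
  · right
    exact Subgroup.eq_of_le_of_card_ge h (by rw [hcard, card_E2])

end Cfsg.Agent.H80.L34
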