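import Cfsg.Agent.H80.L34b
import Cfsg.Agent.H80.L34d

/-! Final assembly. -/

set_option autoImplicit false
set_option linter.style.haveILetI false

namespace Cfsg.Agent.H80.L34

theorem part {X L : Type*} [Group X] [Finite X] [Group L] (φ : X →* L) (hsurj : Function.Surjective φ)
    {P : Type*} [Group P]
    (T : Sylow 2 X) {E S E' : Subgroup L} (hP : Par E S)
    (hS : Nonempty (S ≃* P)) {H K : Subgroup X}
    (hkH : φ.ker ≤ H) (hkK : φ.ker ≤ K) (hH : H.map φ = E) (hK : K.map φ = E')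
    (hH2 : ∀ x ∈ H, x * x = 1) (hK2 : ∀ x ∈ K, x * x = 1) (hHT : H ≤ T) (hKT : K ≤ T)
    (hTN : ∀ t ∈ (T : Subgroup X), φ t ∈ Subgroup.normalizer (E : Set L))
    (hT : ∀ t ∈ (T : Subgroup X), ∃ e ∈ E, ∃ f ∈ E', φ t = e * f) :
    ∃ C : Subgroup X, C ≤ Subgroup.normalizer (H : Set X) ∧ C ⊓ H = ⊥ ∧
      H ⊔ C = Subgroup.normalizer (H : Set X) ∧ Nonempty (C ≃* P) := by
  obtain ⟨C, h1, h2, h3, h4⟩ := split T H K hH2 hK2 hHT hKT
    (fun t ht => (mem_norm_iff φ hkH hH).2 (hTN t ht)) (by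
      intro t ht
      obtain ⟨e, he, f, hf, hef⟩ := hT t ht
      rw [← hH] at he
      rw [← hK] at hf
      obtain ⟨h, hh, rfl⟩ := he
      obtain ⟨k, hk, rfl⟩ := hf
      refine ⟨h, hh, h⁻¹ * t, ?_, by group⟩
      refine mem_of_map φ hkK hK ?_
      rw [map_mul, hef, map_inv, inv_mul_cancel_left, ← hK]
      exact ⟨k, hk, rfl⟩)
  obtain ⟨e⟩ := compl_iso φ hsurj hP hkH hH h1 h2 h4
  obtain ⟨e'⟩ := hS
  exact ⟨C, h1, h2, h3, ⟨e.trans e'⟩⟩

theorem main {X : Type*} [Group X] [Finite X] {F : Type*} [Field F] [Fintype F]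
    (hF : Fintype.card F = 4) (φ : X →* P3 F) (hsurj : Function.Surjective φ)
    (hker : φ.ker = Subgroup.center X) (hZ2 : ∀ z ∈ Subgroup.center X, z * z = 1)
    (T : Sylow 2 X) (H K : Subgroup X) (hHK : H ≠ K) (hHT : H ≤ T) (hKT : K ≤ T)
    (hZH : Subgroup.center X ≤ H) (hZK : Subgroup.center X ≤ K)
    (hH : (∀ x ∈ H.map φ, x * x = 1) ∧ Nat.card (H.map φ) = 16)
    (hK : (∀ x ∈ K.map φ, x * x = 1) ∧ Nat.card (K.map φ) = 16)
    (hTU : (T : Subgroup X).map φ ≤ UU) :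
    ((∀ x ∈ H, x * x = 1) ∧ (∀ x ∈ K, x * x = 1)) ∧
      H ⊓ K = (Subgroup.center ↥(H ⊔ K)).map (H ⊔ K).subtype ∧
      (∃ C : Subgroup X, C ≤ Subgroup.normalizer (H : Set X) ∧ C ⊓ H = ⊥ ∧ H ⊔ C = Subgroup.normalizer (H : Set X) ∧
        Nonempty (↥C ≃* Matrix.ProjectiveSpecialLinearGroup (Fin 2) F)) ∧
      (∃ C : Subgroup X, C ≤ Subgroup.normalizer (K : Set X) ∧ C ⊓ K = ⊥ ∧ K ⊔ C = Subgroup.normalizer (K : Set X) ∧
        Nonempty (↥C ≃* Matrix.ProjectiveSpecialLinearGroup (Fin 2) F)) := by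
  classical
  -- field facts
  have h2 : (2 : F) = 0 := by
    have h4 : ((Fintype.card F : ℕ) : F) = 0 := Nat.cast_card_eq_zero F
    rw [hF] at h4
    have : (2 : F) * 2 = 0 := by push_cast at h4; linear_combination h4
    rcases mul_eq_zero.1 this with h | h <;> exact h
  have h3 : ∀ x : F, x ≠ 0 → x ^ 3 = 1 := by
    intro x hx
    have := FiniteField.pow_card_sub_one_eq_one x hx
    rwa [hF] at this
  have hw : ∃ w : F, w ≠ 0 ∧ w ≠ 1 := by
    by_contra hcon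
    push Not at hcon
    have h1 : (Finset.univ : Finset F) ⊆ {0, 1} := by
      intro x _
      by_cases hx : x = 0
      · simp [hx]
      · simp [hcon x hx]
    have := Finset.card_le_card h1
    have h5 : Finset.card ({0, 1} : Finset F) ≤ 2 := Finset.card_le_two
    rw [Finset.card_univ, hF] at this
    omega
  have hP1 := par_E1 h2 h3 hw
  have hP2 := par_E2 h2 h3 hw
  have hkH : φ.ker ≤ H := by rw [hker]; exact hZH
  have hkK : φ.ker ≤ K := by rw [hker]; exact hZK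
  have hHU : H.map φ ≤ UU := (Subgroup.map_mono hHT).trans hTU
  have hKU : K.map φ ≤ UU := (Subgroup.map_mono hKT).trans hTU
  have hcH := two_cases hHU hH.1 (by rw [hH.2, hF])
  have hcK := two_cases hKU hK.1 (by rw [hK.2, hF])
  have hinj : H.map φ = K.map φ → False := by
    intro h
    apply hHK
    apply le_antisymm
    · intro x hx
      exact mem_of_map φ hkK rfl (by rw [← h]; exact ⟨x, hx, rfl⟩)
    · intro x hx
      exact mem_of_map φ hkH rfl (by rw [h]; exact ⟨x, hx, rfl⟩)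
  have hkc : ∀ z ∈ φ.ker, ∀ x, z * x = x * z := by
    intro z hz x
    rw [hker, Subgroup.mem_center_iff] at hz
    exact (hz x).symm
  have hk2 : ∀ z ∈ φ.ker, z * z = 1 := by
    intro z hz
    rw [hker] at hz; exact hZ2 z hz
  have hTm : ∀ t ∈ (T : Subgroup X), φ t ∈ (UU : Subgroup (P3 F)) := fun t ht => hTU ⟨t, ht, rfl⟩
  rcases hcH with hH1 | hH1 <;> rcases hcK with hK1 | hK1
  · exact (hinj (hH1.trans hK1.symm)).elim
  · have a1 := elem φ hsurj hkc hk2 hP1 hkH hH1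
    have a2 := elem φ hsurj hkc hk2 hP2 hkK hK1
    refine ⟨⟨a1, a2⟩, center_eq φ hP1 hP2 hkH hkK hH1 hK1 a1 a2, ?_, ?_⟩
    · exact part φ hsurj T hP1 (SS_iso h2) hkH hkK hH1 hK1 a1 a2 hHT hKT
        (fun t ht => UU_norm1 (hTm t ht)) (fun t ht => (UU_dec (hTm t ht)).1)
    · exact part φ hsurj T hP2 (SS_iso' h2) hkK hkH hK1 hH1 a2 a1 hKT hHT
        (fun t ht => UU_norm2 (hTm t ht)) (fun t ht => (UU_dec (hTm t ht)).2)
  · have a1 := elem φ hsurj hkc hk2 hP2 hkH hH1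
    have a2 := elem φ hsurj hkc hk2 hP1 hkK hK1
    refine ⟨⟨a1, a2⟩, center_eq φ hP2 hP1 hkH hkK hH1 hK1 a1 a2, ?_, ?_⟩
    · exact part φ hsurj T hP2 (SS_iso' h2) hkH hkK hH1 hK1 a1 a2 hHT hKT
        (fun t ht => UU_norm2 (hTm t ht)) (fun t ht => (UU_dec (hTm t ht)).2)
    · exact part φ hsurj T hP1 (SS_iso h2) hkK hkH hK1 hH1 a2 a1 hKT hHT
        (fun t ht => UU_norm1 (hTm t ht)) (fun t ht => (UU_dec (hTm t ht)).1)
  · exact (hinj (hH1.trans hK1.symm)).elim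

/-- every 2-subgroup of the quotient is conjugate into `UU` -/
theorem sylow_UU {F : Type*} [Field F] [Fintype F] (hF : Fintype.card F = 4) {R : Subgroup (P3 F)}
    (hR : IsPGroup 2 R) : ∃ g : P3 F, R.map (MulAut.conj g).toMonoidHom ≤ UU := by
  classical
  haveI : Fact (Nat.Prime 2) := ⟨Nat.prime_two⟩
  have hcard : Nat.card (P3 F) = 20160 := by
    have h := Cfsg.Agent.S0243.result hF 3 (by norm_num)
    rw [Fin.prod_univ_three] at h
    have e : (4 ^ 3 - 4 ^ ((0 : Fin 3) : ℕ)) * (4 ^ 3 - 4 ^ ((1 : Fin 3) : ℕ)) * (4 ^ 3 - 4 ^ ((2 : Fin 3) : ℕ)) = 181440 := by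
      decide
    rw [e] at h
    have e2 : Nat.gcd 3 (4 - 1) = 3 := by decide
    rw [e2] at h
    change Nat.card (Matrix.ProjectiveSpecialLinearGroup (Fin 3) F) = 20160
    omega
  have hU : Nat.card (UU : Subgroup (P3 F)) = 2 ^ 6 := by rw [card_UU, hF]; norm_num
  have hUp : IsPGroup 2 (UU : Subgroup (P3 F)) := IsPGroup.of_card hU
  obtain ⟨Q', hQ'⟩ := hUp.exists_le_sylow
  obtain ⟨Q, hQ⟩ := hR.exists_le_sylow
  have hQU : (Q' : Subgroup (P3 F)) = UU := by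
    symm
    apply Subgroup.eq_of_le_of_card_ge hQ'
    obtain ⟨k, hk⟩ := IsPGroup.iff_card.1 Q'.2
    have h1 : Nat.card (Q' : Subgroup (P3 F)) ∣ 20160 := by
      rw [← hcard]; exact Subgroup.card_subgroup_dvd_card _
    rw [hk] at h1
    have h2 : k ≤ 6 := by
      by_contra hcon
      have h3 : 2 ^ 7 ∣ 20160 := (pow_dvd_pow 2 (by omega : 7 ≤ k)).trans h1
      revert h3
      norm_num
    rw [hk, hU]
    exact Nat.pow_le_pow_right (by norm_num) h2
  obtain ⟨g, hg⟩ := MulAction.exists_smul_eq (P3 F) Q Q'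
  refine ⟨g, ?_⟩
  rintro _ ⟨x, hx, rfl⟩
  have h1 : MulAut.conj g x ∈ (g • Q : Sylow 2 (P3 F)) := by
    have : x ∈ (Q : Subgroup (P3 F)) := hQ hx
    rw [Sylow.smul_def]
    exact Subgroup.smul_mem_pointwise_smul x (MulAut.conj g) _ this
  rw [hg] at h1
  have h2 : MulAut.conj g x ∈ (Q' : Subgroup (P3 F)) := h1
  rw [hQU] at h2
  exact h2

end Cfsg.Agent.H80.L34
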