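import Cfsg.Agent.Fus.SEConj

set_option autoImplicit false

/-! Transvections in automorphism groups with a strongly p-embedded subgroup: the trivial
intersection argument. -/

namespace Cfsg.Agent.H80.TV

open Cfsg Cfsg.Agent Cfsg.Agent.FusSE
open scoped Pointwise

section Spe

variable {X : Type*} [Group X] [Finite X] {p : ℕ} [Fact p.Prime] {Y : Subgroup X}

theorem spe_k1 (hY : IsStronglyPEmbedded p Y) {R : Subgroup X} (hR : IsPGroup p R) {a z : X}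
    (ha : a ∈ R) (ha1 : a ≠ 1) (haY : z * a * z⁻¹ ∈ Y) : ∀ r ∈ R, z * r * z⁻¹ ∈ Y := by
  set K := R.map (MulAut.conj z).toMonoidHom with hK
  have hKp : IsPGroup p K := hR.map _
  have hmem : ∀ r ∈ R, z * r * z⁻¹ ∈ K := fun r hr => ⟨r, hr, rfl⟩
  have hle : K ≤ Y := by
    refine le_of_normalized hY (D := Subgroup.zpowers (z * a * z⁻¹)) (hKp.to_le ?_) ?_ ?_ hKp ?_
    · rw [Subgroup.zpowers_le]; exact hmem a ha
    · rw [Subgroup.zpowers_le]; exact haY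
    · intro h
      rw [Subgroup.zpowers_eq_bot] at h
      exact ha1 (conj_eq_one_iff.1 h)
    · refine le_trans ?_ Subgroup.le_normalizer
      rw [Subgroup.zpowers_le]; exact hmem a ha
  exact fun r hr => hle (hmem r hr)

theorem spe_k2 (hY : IsStronglyPEmbedded p Y) {R : Subgroup X} (hR : IsPGroup p R) {a z : X}
    (ha : a ∈ R) (ha1 : a ≠ 1) (haY : a ∈ Y) (hz : z * a * z⁻¹ ∈ Y) : z ∈ Y := by
  refine H48.SPE.mem_of_conj_le hY (Q := Subgroup.zpowers a) (hR.to_le (by rwa [Subgroup.zpowers_le]))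
    (by rwa [Subgroup.zpowers_le]) (by rwa [Ne, Subgroup.zpowers_eq_bot]) z ?_
  rintro _ ⟨b, hb, rfl⟩
  have hb' : b ∈ Subgroup.zpowers a := hb
  obtain ⟨k, rfl⟩ := hb'
  show z * a ^ k * z⁻¹ ∈ Y
  rw [← conj_zpow]
  exact Y.zpow_mem hz k

theorem spe_ti (hY : IsStronglyPEmbedded p Y) {T : Subgroup X} (hT : IsPGroup p T) {t : X} (ht : t ∈ T)
    (ht1 : t ≠ 1)
    (H : ∀ g : X, (∃ R : Subgroup X, IsPGroup p R ∧ t ∈ R ∧ g * t * g⁻¹ ∈ R) ∨
      (∃ u ∈ T, u ≠ 1 ∧ ∃ R : Subgroup X, IsPGroup p R ∧ g * t * g⁻¹ ∈ R ∧ u * (g * t * g⁻¹) * u⁻¹ ∈ R)) :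
    False := by
  obtain ⟨P, hPY, hP1, hP⟩ := H48.SPE.exists_sylow_le hY
  obtain ⟨Q, hQ⟩ := hT.exists_le_sylow
  obtain ⟨x, hx⟩ := MulAction.exists_smul_eq X Q P
  have hxT : ∀ t ∈ T, x * t * x⁻¹ ∈ Y := by
    intro t ht
    apply hPY
    rw [← hx]
    exact Subgroup.smul_mem_pointwise_smul _ (MulAut.conj x) _ (hQ ht)
  obtain ⟨-, hYtop, -⟩ := H48.isStronglyPEmbedded_iff.mp hY
  obtain ⟨g₁, hg₁⟩ : ∃ g : X, g ∉ Y := by
    by_contra h
    push Not at h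
    exact hYtop (Subgroup.eq_top_iff' Y |>.mpr h)
  apply hg₁
  set g := x⁻¹ * g₁ * x with hg
  have hgg : g₁ = x * g * x⁻¹ := by rw [hg]; group
  have hconj : IsPGroup p (T.map (MulAut.conj x).toMonoidHom) := hT.map _
  rcases H g with ⟨R, hR, h1, h2⟩ | ⟨u, hu, hu1, R, hR, h1, h2⟩
  · have h3 := spe_k1 hY hR h1 ht1 (hxT t ht) _ h2
    refine spe_k2 hY hconj (a := x * t * x⁻¹) ⟨t, ht, rfl⟩ (fun h => ht1 (conj_eq_one_iff.1 h)) (hxT t ht) ?_
    rw [hgg]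
    convert h3 using 1
    group
  · have h3 := spe_k1 hY hR (z := x * g⁻¹) h1 (fun h => ht1 (conj_eq_one_iff.1 h))
      (by convert hxT t ht using 1; group) _ h2
    have h4 : x * g⁻¹ * u * g * x⁻¹ ∈ Y := by
      refine spe_k2 hY hconj (a := x * t * x⁻¹) ⟨t, ht, rfl⟩ (fun h => ht1 (conj_eq_one_iff.1 h)) (hxT t ht) ?_
      convert h3 using 1
      group
    have h5 : x * g⁻¹ * x⁻¹ ∈ Y := by
      refine spe_k2 hY hconj (a := x * u * x⁻¹) ⟨u, hu, rfl⟩ (fun h => hu1 (conj_eq_one_iff.1 h)) (hxT u hu) ?_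
      convert h4 using 1
      group
    have h6 := Y.inv_mem h5
    rw [hgg]
    convert h6 using 1
    group

end Spe

section Aut

variable {V : Type*} [CommGroup V] [Finite V] {p : ℕ} [hp : Fact p.Prime]

theorem inn_eq_bot : Inn V = ⊥ := by
  rw [eq_bot_iff]
  rintro _ ⟨x, rfl⟩
  rw [Subgroup.mem_bot]
  ext y
  show x * y * x⁻¹ = y
  rw [mul_comm x y, mul_inv_cancel_right]

theorem seOut_ti {A : Subgroup (MulAut V)} (h : SEOut p A) {T : Subgroup (MulAut V)} (hTA : T ≤ A)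
    (hT : IsPGroup p T) {t : MulAut V} (ht : t ∈ T) (ht1 : t ≠ 1)
    (H : ∀ g ∈ A, (∃ R ≤ A, IsPGroup p R ∧ t ∈ R ∧ g * t * g⁻¹ ∈ R) ∨
      (∃ u ∈ T, u ≠ 1 ∧ ∃ R ≤ A, IsPGroup p R ∧ g * t * g⁻¹ ∈ R ∧ u * (g * t * g⁻¹) * u⁻¹ ∈ R)) :
    False := by
  obtain ⟨hn, E, hE⟩ := h
  have hI : (Inn V).subgroupOf A = ⊥ := by rw [inn_eq_bot, Subgroup.bot_subgroupOf]
  set q := QuotientGroup.mk' ((Inn V).subgroupOf A) with hq
  have hinj : Function.Injective q := by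
    rw [injective_iff_map_eq_one]
    intro a ha
    have : a ∈ q.ker := ha
    rw [hq, QuotientGroup.ker_mk', hI] at this
    exact this
  have hsurj : Function.Surjective q := QuotientGroup.mk'_surjective _
  have hpg : ∀ R : Subgroup (MulAut V), IsPGroup p R → IsPGroup p ((R.subgroupOf A).map q) := fun R hR =>
    (hR.comap_of_injective A.subtype A.subtype_injective).map q
  refine spe_ti hE (T := (T.subgroupOf A).map q) (hpg T hT) (t := q ⟨t, hTA ht⟩) ⟨_, ht, rfl⟩ ?_ ?_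
  · intro h
    apply ht1
    exact congrArg Subtype.val (hinj (h.trans (map_one q).symm))
  · intro g
    obtain ⟨g, rfl⟩ := hsurj g
    rcases H g g.2 with ⟨R, hRA, hR, h1, h2⟩ | ⟨u, hu, hu1, R, hRA, hR, h1, h2⟩
    · left
      refine ⟨_, hpg R hR, ⟨⟨t, hTA ht⟩, h1, rfl⟩, ⟨g * ⟨t, hTA ht⟩ * g⁻¹, h2, ?_⟩⟩
      rw [map_mul, map_mul, map_inv]
    · right
      refine ⟨q ⟨u, hTA hu⟩, ⟨_, hu, rfl⟩, ?_, _, hpg R hR, ⟨g * ⟨t, hTA ht⟩ * g⁻¹, h1, ?_⟩,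
        ⟨⟨u, hTA hu⟩ * (g * ⟨t, hTA ht⟩ * g⁻¹) * ⟨u, hTA hu⟩⁻¹, h2, ?_⟩⟩
      · intro h
        apply hu1
        exact congrArg Subtype.val (hinj (h.trans (map_one q).symm))
      · rw [map_mul, map_mul, map_inv]
      · simp only [map_mul, map_inv]

end Aut

end Cfsg.Agent.H80.TV
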