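import Cfsg.Agent.H80.TV1

set_option autoImplicit false

/-! Transvections: definitions, the centralizer of a transvection in a Sylow subgroup, torus elements. -/

namespace Cfsg.Agent.H80.TV

open Cfsg Cfsg.Agent Cfsg.Agent.FusSE

section Defs

variable {V : Type*} [CommGroup V]

/-- the fixed points -/
def ax (a : MulAut V) : Subgroup V where
  carrier := {x | a x = x}
  one_mem' := map_one a
  mul_mem' := fun {x y} hx hy => by
    show a (x * y) = x * y
    rw [map_mul, show a x = x from hx, show a y = y from hy]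
  inv_mem' := fun {x} hx => by
    show a x⁻¹ = x⁻¹
    rw [map_inv, show a x = x from hx]

theorem mem_ax {a : MulAut V} {x : V} : x ∈ ax a ↔ a x = x := Iff.rfl

/-- the commutator homomorphism -/
def dl (a : MulAut V) : V →* V := MonoidHom.mk' (fun x => a x * x⁻¹) (by
  intro x y
  simp only [map_mul, mul_inv]
  exact mul_mul_mul_comm _ _ _ _)

/-- the commutator subgroup `[V, a]` -/
def cn (a : MulAut V) : Subgroup V := (dl a).range

theorem mem_cn (a : MulAut V) (x : V) : a x * x⁻¹ ∈ cn a := ⟨x, rfl⟩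

theorem ker_dl (a : MulAut V) : (dl a).ker = ax a := by
  ext x
  rw [MonoidHom.mem_ker, mem_ax]
  show a x * x⁻¹ = 1 ↔ _
  rw [mul_inv_eq_one]

theorem index_ax (a : MulAut V) : (ax a).index = Nat.card (cn a) := by
  rw [← ker_dl, Subgroup.index_ker]; rfl

/-- transvections -/
structure Tv (p : ℕ) (a : MulAut V) : Prop where
  card : Nat.card (cn a) = p
  le : cn a ≤ ax a

theorem mem_cn_conj {g t : MulAut V} {x : V} : x ∈ cn (g * t * g⁻¹) ↔ g⁻¹ x ∈ cn t := by
  constructor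
  · rintro ⟨y, rfl⟩
    refine ⟨g⁻¹ y, ?_⟩
    show t (g⁻¹ y) * (g⁻¹ y)⁻¹ = g⁻¹ (g (t (g⁻¹ y)) * y⁻¹)
    rw [map_mul, MulAut.inv_apply_self, map_inv]
  · rintro ⟨y, hy⟩
    refine ⟨g y, ?_⟩
    have hy' : t y * y⁻¹ = g⁻¹ x := hy
    show g (t (g⁻¹ (g y))) * (g y)⁻¹ = x
    rw [MulAut.inv_apply_self, ← map_inv, ← map_mul, hy', MulAut.apply_inv_self]

theorem mem_ax_conj {g t : MulAut V} {x : V} : x ∈ ax (g * t * g⁻¹) ↔ g⁻¹ x ∈ ax t := by
  rw [mem_ax, mem_ax]
  show g (t (g⁻¹ x)) = x ↔ _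
  constructor
  · intro h
    have h2 := congrArg (fun z => g⁻¹ z) h
    simpa [MulAut.inv_apply_self] using h2
  · intro h
    rw [h, MulAut.apply_inv_self]

theorem Tv.conj {p : ℕ} {t : MulAut V} (h : Tv p t) (g : MulAut V) : Tv p (g * t * g⁻¹) := by
  refine ⟨?_, fun x hx => mem_ax_conj.2 (h.le (mem_cn_conj.1 hx))⟩
  rw [← h.card]
  have : cn (g * t * g⁻¹) = (cn t).map g.toMonoidHom := by
    ext x
    rw [mem_cn_conj]
    constructor
    · intro hx
      exact ⟨_, hx, MulAut.apply_inv_self _ g x⟩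
    · rintro ⟨y, hy, rfl⟩
      show g⁻¹ (g y) ∈ _
      rwa [MulAut.inv_apply_self]
  rw [this]
  exact Nat.card_congr ((cn t).equivMapOfInjective g.toMonoidHom g.injective).symm.toEquiv

theorem pow_apply {t : MulAut V} (h : cn t ≤ ax t) (k : ℕ) (x : V) : (t ^ k) x = x * (t x * x⁻¹) ^ k := by
  induction k with
  | zero => simp
  | succ k ih =>
    have h1 : t (t x * x⁻¹) = t x * x⁻¹ := h (mem_cn t x)
    rw [pow_succ', MulAut.mul_apply, ih, map_mul, map_pow, h1, pow_succ']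
    rw [← mul_assoc]
    congr 1
    rw [mul_comm x, inv_mul_cancel_right]

theorem exists_pow_of_card {p : ℕ} [hp : Fact p.Prime] {Z : Subgroup V} (hZ : Nat.card Z = p) {x y : V} (hx : x ∈ Z)
    (hx1 : x ≠ 1) (hy : y ∈ Z) : ∃ k : ℕ, y = x ^ k := by
  have h1 := mem_powers_of_prime_card (G := Z) hZ (g := ⟨x, hx⟩) (g' := ⟨y, hy⟩) (fun h => hx1 (congrArg Subtype.val h))
  obtain ⟨k, hk⟩ := h1
  exact ⟨k, (congrArg Subtype.val hk).symm⟩

theorem pow_card_one {p : ℕ} {Z : Subgroup V} (hZ : Nat.card Z = p) {x : V} (hx : x ∈ Z) : x ^ p = 1 := by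
  have h1 : (⟨x, hx⟩ : Z) ^ Nat.card Z = 1 := pow_card_eq_one'
  rw [hZ] at h1
  exact congrArg Subtype.val h1

theorem Tv.pow_eq_one {p : ℕ} {t : MulAut V} (h : Tv p t) : t ^ p = 1 := by
  ext x
  rw [pow_apply h.le, pow_card_one h.card (mem_cn t x), mul_one]; rfl

theorem Tv.ne_one {p : ℕ} [hp : Fact p.Prime] {t : MulAut V} (h : Tv p t) : t ≠ 1 := by
  rintro rfl
  have h1 : cn (1 : MulAut V) = ⊥ := by
    rw [eq_bot_iff]
    rintro _ ⟨x, rfl⟩
    rw [Subgroup.mem_bot]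
    show x * x⁻¹ = 1
    exact mul_inv_cancel x
  have h2 := h.card
  rw [h1, Subgroup.card_bot] at h2
  exact hp.out.ne_one h2.symm

end Defs

section Main

variable {V : Type*} [CommGroup V] [Finite V] {p : ℕ} [hp : Fact p.Prime]

theorem common (hV : IsPGroup p V) {A : Subgroup (MulAut V)} {a b : MulAut V} (ha : a ∈ A) (hb : b ∈ A)
    (h1 : cn b ≤ ax a) (h2 : cn a ≤ ax a) (h3 : cn b ≤ ax b) :
    ∃ R ≤ A, IsPGroup p R ∧ a ∈ R ∧ b ∈ R := by
  set c : ℕ → Subgroup V := fun i => match i with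
    | 0 => ⊥
    | 1 => cn b
    | 2 => cn a ⊔ cn b
    | _ => ⊤ with hc
  have hmono : Monotone c := by
    refine monotone_nat_of_le_succ fun n => ?_
    rcases n with _ | _ | _ | n
    · exact bot_le
    · exact le_sup_right
    · exact le_top
    · exact le_rfl
  refine ⟨chainStab 3 c rfl hmono ⊓ A, inf_le_right,
    (isPGroup_chainStab hV 3 c rfl rfl hmono).to_le inf_le_left, ⟨?_, ha⟩, ⟨?_, hb⟩⟩
  · intro i hi x hx
    interval_cases i
    · have h4 : a x = x := h1 hx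
      show a x * x⁻¹ ∈ (⊥ : Subgroup V)
      rw [h4, mul_inv_cancel]; exact Subgroup.one_mem _
    · have h4 : a x = x := (sup_le h2 h1) hx
      show a x * x⁻¹ ∈ cn b
      rw [h4, mul_inv_cancel]; exact Subgroup.one_mem _
    · show a x * x⁻¹ ∈ cn a ⊔ cn b
      exact Subgroup.mem_sup_left (mem_cn a x)
  · intro i hi x hx
    interval_cases i
    · have h4 : b x = x := h3 hx
      show b x * x⁻¹ ∈ (⊥ : Subgroup V)
      rw [h4, mul_inv_cancel]; exact Subgroup.one_mem _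
    · show b x * x⁻¹ ∈ cn b
      exact mem_cn b x
    · show b x * x⁻¹ ∈ cn a ⊔ cn b
      exact Subgroup.mem_sup_right (mem_cn b x)

/-- A `p`-subgroup commuting with a transvection `t` in it is `⟨t⟩`. -/
theorem le_zpowers (hV : IsPGroup p V) {A : Subgroup (MulAut V)} (h : SEOut p A) {T : Subgroup (MulAut V)}
    (hTA : T ≤ A) (hT : IsPGroup p T) {t : MulAut V} (ht : t ∈ T) (htv : Tv p t)
    (hcomm : ∀ u ∈ T, u * t = t * u) : T ≤ Subgroup.zpowers t := by
  intro u hu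
  by_contra hut
  refine seOut_ti h hTA hT ht htv.ne_one fun g hg => ?_
  have htA := hTA ht
  set t' := g * t * g⁻¹ with ht'
  have ht'A : t' ∈ A := A.mul_mem (A.mul_mem hg htA) (A.inv_mem hg)
  have htv' : Tv p t' := htv.conj g
  by_cases h1 : cn t' ≤ ax t
  · left
    exact common hV htA ht'A h1 htv.le htv'.le
  by_cases h2 : cn t ≤ ax t'
  · left
    obtain ⟨R, hR, h3, h4, h5⟩ := common hV ht'A htA h2 htv'.le htv.le
    exact ⟨R, hR, h3, h5, h4⟩
  right
  obtain ⟨c', hc', hc'1⟩ := SetLike.not_le_iff_exists.1 h1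
  obtain ⟨c, hc, hc1⟩ := SetLike.not_le_iff_exists.1 h2
  have huap : ∀ x, u (t x) = t (u x) := fun x => by
    rw [← MulAut.mul_apply, hcomm u hu]; rfl
  -- `u` is unipotent on `cn t` and on `V / ax t`
  obtain ⟨m, hm⟩ : ∃ m, u ^ p ^ m = 1 := by
    obtain ⟨m, hm⟩ := hT ⟨u, hu⟩
    exact ⟨m, congrArg Subtype.val hm⟩
  have hu1 : ∀ z ∈ cn t, u z = z := by
    intro z hz
    have := triv_on_factor (M := cn t) (N := ⊥) bot_le inferInstance
      (Or.inl (by rw [htv.card, Subgroup.card_bot, mul_one])) (α := u) (by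
        rintro _ ⟨y, rfl⟩
        refine ⟨u y, ?_⟩
        show t (u y) * (u y)⁻¹ = u (t y * y⁻¹)
        rw [map_mul, huap, map_inv]) (by
        intro y hy
        rw [Subgroup.mem_bot] at hy ⊢
        rw [hy, map_one]) hm z hz
    rw [Subgroup.mem_bot, mul_inv_eq_one] at this
    exact this
  have hu2 : ∀ z, u z * z⁻¹ ∈ ax t := by
    intro z
    refine triv_on_factor (M := ⊤) (N := ax t) le_top inferInstance
      (Or.inl ?_) (α := u) (fun _ _ => Subgroup.mem_top _) (by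
        intro y hy
        have hy' : t y = y := hy
        show t (u y) = u y
        rw [← huap, hy']) hm z (Subgroup.mem_top _)
    rw [Subgroup.card_top, ← Subgroup.index_mul_card (ax t), index_ax, htv.card]
  set c₀ := t c' * c'⁻¹ with hc₀
  have hc₀m : c₀ ∈ cn t := mem_cn t c'
  have hc₀1 : c₀ ≠ 1 := fun h => hc'1 (mul_inv_eq_one.1 h)
  have hc₀ax : c₀ ∉ ax t' := by
    intro h3
    obtain ⟨k, rfl⟩ := exists_pow_of_card htv.card hc₀m hc₀1 hc
    exact hc1 (Subgroup.pow_mem _ h3 k)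
  set h := u c' * c'⁻¹ with hh
  obtain ⟨k, hk⟩ := exists_pow_of_card htv'.card (mem_cn t' c₀) (fun h => hc₀ax (mul_inv_eq_one.1 h))
    (Subgroup.inv_mem _ (mem_cn t' h))
  have huc : u c' = c' * h := by rw [hh, mul_comm c', inv_mul_cancel_right]
  have hmem : c' * (h * c₀ ^ k) ∈ ax t' := by
    have h3 : t' c' = c' := htv'.le hc'
    have h4 : t' c₀ = (t' c₀ * c₀⁻¹) * c₀ := by rw [inv_mul_cancel_right]
    have h5 : t' h = (t' h * h⁻¹) * h := by rw [inv_mul_cancel_right]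
    rw [mem_ax, map_mul, map_mul, map_pow, h3, h5, h4, mul_pow, ← hk]
    rw [mul_mul_mul_comm (t' h * h⁻¹), mul_inv_cancel, one_mul]
  have hu'c : (u * t ^ k) c' = c' * (h * c₀ ^ k) := by
    rw [MulAut.mul_apply, pow_apply htv.le, map_mul, map_pow, ← hc₀, hu1 c₀ hc₀m, huc, mul_assoc]
  refine ⟨u * t ^ k, T.mul_mem hu (T.pow_mem ht k), ?_, ?_⟩
  · intro h3
    apply hut
    rw [mul_eq_one_iff_eq_inv] at h3
    rw [h3]
    exact Subgroup.inv_mem _ (Subgroup.pow_mem _ (Subgroup.mem_zpowers t) k)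
  · have hu'A : u * t ^ k ∈ A := hTA (T.mul_mem hu (T.pow_mem ht k))
    have htv'' : Tv p (u * t ^ k * t' * (u * t ^ k)⁻¹) := htv'.conj _
    refine common hV ht'A (A.mul_mem (A.mul_mem hu'A ht'A) (A.inv_mem hu'A)) ?_ htv'.le htv''.le
    intro x hx
    rw [mem_cn_conj] at hx
    have hc'1' : c' ≠ 1 := by
      rintro rfl
      exact hc'1 (Subgroup.one_mem _)
    obtain ⟨j, hj⟩ := exists_pow_of_card htv'.card hc' hc'1' hx
    have hx' : x = (c' * (h * c₀ ^ k)) ^ j := by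
      rw [← hu'c, ← map_pow, ← hj, MulAut.apply_inv_self]
    rw [hx']
    exact Subgroup.pow_mem _ hmem j

/-- Torus elements of the group generated by opposite transvections. -/
theorem exists_torus (hV : IsPGroup p V) {A : Subgroup (MulAut V)} (h : SEOut p A) {t : MulAut V} (ht : t ∈ A)
    (htv : Tv p t) {x y : ℕ} (hxy : x * y ≡ 1 [MOD p]) :
    ∃ τ ∈ A, (∀ z ∈ cn t, τ z = z ^ x) ∧ (∀ z ∈ ax t, τ z * z⁻¹ ∈ cn t) ∧ τ * t * τ⁻¹ = t ^ (x ^ 2) := by
  have hTp : IsPGroup p (Subgroup.zpowers t) := by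
    rintro ⟨_, k, rfl⟩
    refine ⟨1, Subtype.ext ?_⟩
    show (t ^ k) ^ p ^ 1 = 1
    rw [pow_one, ← zpow_natCast, ← zpow_mul, mul_comm, zpow_mul, zpow_natCast, htv.pow_eq_one, one_zpow]
  -- an opposite conjugate
  obtain ⟨t', ht'A, htv', h1, h2⟩ : ∃ t' ∈ A, Tv p t' ∧ ¬ cn t' ≤ ax t ∧ ¬ cn t ≤ ax t' := by
    by_contra hcon
    push Not at hcon
    refine seOut_ti h (T := Subgroup.zpowers t) (by rwa [Subgroup.zpowers_le]) hTp (Subgroup.mem_zpowers t)
      htv.ne_one fun g hg => Or.inl ?_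
    have htA := ht
    have ht'A : g * t * g⁻¹ ∈ A := A.mul_mem (A.mul_mem hg htA) (A.inv_mem hg)
    have htv' : Tv p (g * t * g⁻¹) := htv.conj g
    by_cases h1 : cn (g * t * g⁻¹) ≤ ax t
    · exact common hV htA ht'A h1 htv.le htv'.le
    · have h2 := hcon _ ht'A htv' h1
      obtain ⟨R, hR, h3, h4, h5⟩ := common hV ht'A htA h2 htv'.le htv.le
      exact ⟨R, hR, h3, h5, h4⟩
  obtain ⟨c', hc', hc'1⟩ := SetLike.not_le_iff_exists.1 h1
  obtain ⟨c₁, hc₁, hc₁1⟩ := SetLike.not_le_iff_exists.1 h2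
  have hc'1' : c' ≠ 1 := by
    rintro rfl
    exact hc'1 (Subgroup.one_mem _)
  set c := t c' * c'⁻¹ with hc
  have hcm : c ∈ cn t := mem_cn t c'
  have hc1 : c ≠ 1 := fun h => hc'1 (mul_inv_eq_one.1 h)
  have hcax : c ∉ ax t' := by
    intro h3
    obtain ⟨k, rfl⟩ := exists_pow_of_card htv.card hcm hc1 hc₁
    exact hc₁1 (Subgroup.pow_mem _ h3 k)
  -- normalised opposite transvection
  obtain ⟨k, hk⟩ := exists_pow_of_card htv'.card (mem_cn t' c) (fun h => hcax (mul_inv_eq_one.1 h))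
    (Subgroup.inv_mem _ hc')
  set v := t' ^ k with hv
  have hvA : v ∈ A := A.pow_mem ht'A k
  have etc : t c = c := htv.le hcm
  have etc' : t c' = c' * c := by rw [hc, mul_comm c', inv_mul_cancel_right]
  have evc : v c = c * c'⁻¹ := by rw [hv, pow_apply htv'.le, ← hk]
  have evc' : v c' = c' := by
    rw [hv, pow_apply htv'.le]
    have h3 : t' c' = c' := htv'.le hc'
    rw [h3, mul_inv_cancel, one_pow, mul_one]
  have hvm : ∀ z, v z * z⁻¹ ∈ cn t' := by
    intro z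
    rw [hv, pow_apply htv'.le, mul_comm z, mul_inv_cancel_right]
    exact Subgroup.pow_mem _ (mem_cn t' z) k
  have hvcn : cn v ≤ ax v := by
    rintro _ ⟨z, rfl⟩
    show v (v z * z⁻¹) = _
    obtain ⟨j, hj⟩ := exists_pow_of_card htv'.card hc' hc'1' (hvm z)
    have h3 : dl v z = c' ^ j := hj
    rw [hj, map_pow, evc', h3]
  have hcp : c ^ p = 1 := pow_card_one htv.card hcm
  have hc'p : c' ^ p = 1 := pow_card_one htv'.card hc'
  have hpw : ∀ z : V, z ^ p = 1 → z ^ (x * y) = z := by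
    intro z hz
    have h3 : z ^ (x * y) = z ^ 1 := pow_eq_pow_iff_modEq.2 (hxy.of_dvd (orderOf_dvd_of_pow_eq_one hz))
    rw [h3, pow_one]
  have etx : (t ^ x) c = c := by rw [pow_apply htv.le, etc, mul_inv_cancel, one_pow, mul_one]
  have etx' : (t ^ x) c' = c' * c ^ x := by rw [pow_apply htv.le, ← hc]
  have evy : (v ^ y) c = c * (c'⁻¹) ^ y := by
    rw [pow_apply hvcn, evc, mul_comm c c'⁻¹, mul_inv_cancel_right, mul_comm c]
  have evy' : (v ^ y) c' = c' := by rw [pow_apply hvcn, evc', mul_inv_cancel, one_pow, mul_one]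
  -- the element
  have e1 : (t * v * t)⁻¹ c = c' := by
    have h3 : (t * v * t) c' = c := by
      rw [MulAut.mul_apply, MulAut.mul_apply, etc', map_mul, evc', evc, mul_comm c c'⁻¹, mul_inv_cancel_left, etc]
    rw [← h3, MulAut.inv_apply_self]
  have e2 : (t * v * t)⁻¹ c' = c⁻¹ := by
    have h3 : (t * v * t) c⁻¹ = c' := by
      rw [MulAut.mul_apply, MulAut.mul_apply, map_inv, etc, map_inv, evc, mul_inv, inv_inv, map_mul, map_inv, etc, etc']
      rw [mul_comm c', inv_mul_cancel_left]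
    rw [← h3, MulAut.inv_apply_self]
  set w := t ^ x * v ^ y * t ^ x with hw
  have e3 : w c' = c ^ x := by
    rw [hw, MulAut.mul_apply, MulAut.mul_apply, etx', map_mul, map_pow, evy', evy, mul_pow, ← pow_mul, mul_comm y x,
      inv_pow, hpw c' hc'p, mul_comm (c ^ x), mul_inv_cancel_left, map_pow, etx]
  have e4 : w c⁻¹ = c' ^ y := by
    rw [hw, MulAut.mul_apply, MulAut.mul_apply, map_inv, etx, map_inv, evy, mul_inv, map_mul, map_inv, etx, inv_pow,
      inv_inv, map_pow, etx', mul_pow, ← pow_mul, hpw c hcp]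
    rw [mul_comm (c' ^ y), inv_mul_cancel_left]
  obtain ⟨τ, hτ⟩ : ∃ τ, τ = w * (t * v * t)⁻¹ := ⟨_, rfl⟩
  have hτc : τ c = c ^ x := by rw [hτ, MulAut.mul_apply, e1, e3]
  have hτc' : τ c' = c' ^ y := by rw [hτ, MulAut.mul_apply, e2, e4]
  have htA := ht
  have hwA : w ∈ A := A.mul_mem (A.mul_mem (A.pow_mem htA x) (A.pow_mem hvA y)) (A.pow_mem htA x)
  have hτA : τ ∈ A := hτ ▸ A.mul_mem hwA (A.inv_mem (A.mul_mem (A.mul_mem htA hvA) htA))
  have hfix : ∀ z, t z = z → v z = z → τ z = z := by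
    intro z h3 h4
    have h5 : (t ^ x) z = z := by rw [pow_apply htv.le, h3, mul_inv_cancel, one_pow, mul_one]
    have h6 : (v ^ y) z = z := by rw [pow_apply hvcn, h4, mul_inv_cancel, one_pow, mul_one]
    have h7 : (t * v * t) z = z := by rw [MulAut.mul_apply, MulAut.mul_apply, h3, h4, h3]
    have h8 : (t * v * t)⁻¹ z = z := by
      conv_lhs => rw [← h7]
      rw [MulAut.inv_apply_self]
    rw [hτ, MulAut.mul_apply, h8, hw, MulAut.mul_apply, MulAut.mul_apply, h5, h6, h5]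
  -- decomposition of elements
  have hdec1 : ∀ z ∈ ax t, ∃ (j : ℕ) (d : V), z = c ^ j * d ∧ t d = d ∧ v d = d := by
    intro z hz
    obtain ⟨j, hj⟩ := exists_pow_of_card htv'.card (Subgroup.inv_mem _ hc') (inv_ne_one.2 hc'1') (hvm z)
    refine ⟨j, (c ^ j)⁻¹ * z, by rw [mul_inv_cancel_left], ?_, ?_⟩
    · rw [map_mul, map_inv, map_pow, etc]
      rw [show t z = z from hz]
    · have h3 : v z = c'⁻¹ ^ j * z := by rw [← hj, inv_mul_cancel_right]
      rw [map_mul, map_inv, map_pow, evc, h3, mul_pow, mul_inv, mul_assoc, inv_mul_cancel_left]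
  have hdec2 : ∀ z : V, ∃ (i : ℕ) (z' : V), z = c' ^ i * z' ∧ z' ∈ ax t := by
    intro z
    obtain ⟨i, hi⟩ := exists_pow_of_card htv.card hcm hc1 (mem_cn t z)
    refine ⟨i, (c' ^ i)⁻¹ * z, by rw [mul_inv_cancel_left], ?_⟩
    have h3 : t z = c ^ i * z := by rw [← hi, inv_mul_cancel_right]
    rw [mem_ax, map_mul, map_inv, map_pow, etc', h3, mul_pow, mul_inv, mul_assoc, inv_mul_cancel_left]
  refine ⟨τ, hτA, ?_, ?_, ?_⟩
  · intro z hz
    obtain ⟨j, rfl⟩ := exists_pow_of_card htv.card hcm hc1 hz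
    rw [map_pow, hτc, ← pow_mul, ← pow_mul, mul_comm]
  · intro z hz
    obtain ⟨j, d, rfl, hd1, hd2⟩ := hdec1 z hz
    rw [map_mul, hfix d hd1 hd2, map_pow, hτc, mul_inv, mul_mul_mul_comm, mul_inv_cancel, mul_one]
    exact Subgroup.mul_mem _ (Subgroup.pow_mem _ (Subgroup.pow_mem _ hcm _) _) (Subgroup.inv_mem _ (Subgroup.pow_mem _ hcm _))
  · rw [mul_inv_eq_iff_eq_mul]
    have etx2 : ∀ z, (t ^ (x ^ 2)) z = z * (t z * z⁻¹) ^ (x ^ 2) := fun z => pow_apply htv.le _ z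
    ext z
    obtain ⟨i, z', rfl, hz'⟩ := hdec2 z
    obtain ⟨j, d, rfl, hd1, hd2⟩ := hdec1 z' hz'
    have f1 : (τ * t) c' = (t ^ (x ^ 2) * τ) c' := by
      rw [MulAut.mul_apply, MulAut.mul_apply, etc', map_mul, hτc, hτc', etx2, map_pow, etc', mul_pow c' c y,
        mul_comm (c' ^ y) (c ^ y), mul_inv_cancel_right, ← pow_mul]
      congr 1
      rw [show y * x ^ 2 = x * y * x by ring, pow_mul, hpw c hcp]
    have f2 : (τ * t) c = (t ^ (x ^ 2) * τ) c := by
      rw [MulAut.mul_apply, MulAut.mul_apply, etc, hτc, etx2, map_pow, etc, mul_inv_cancel, one_pow, mul_one]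
    have f3 : (τ * t) d = (t ^ (x ^ 2) * τ) d := by
      rw [MulAut.mul_apply, MulAut.mul_apply, hd1, hfix d hd1 hd2, etx2, hd1, mul_inv_cancel, one_pow, mul_one]
    rw [map_mul, map_mul, map_mul, map_mul, map_pow, map_pow, map_pow, map_pow, f1, f2, f3]

end Main

end Cfsg.Agent.H80.TV
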