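import Mathlib

set_option autoImplicit false

/-! Determinants of automorphisms of elementary abelian groups of order `p ^ 3` with an invariant flag. -/

namespace Cfsg.Agent.H80.TV

theorem exists_pow_mul {G : Type*} [Group G] {p : ℕ} [hp : Fact p.Prime] {A B : Subgroup G} [B.Normal]
    (hr : B.relIndex A = p) {x y : G} (hx : x ∈ A) (hx' : x ∉ B) (hy : y ∈ A) :
    ∃ k : ℕ, (x ^ k)⁻¹ * y ∈ B := by
  set Z := A.map (QuotientGroup.mk' B) with hZ
  have hc : Nat.card Z = p := by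
    have h1 : (QuotientGroup.mk' B).ker.relIndex A = Nat.card (A.map (QuotientGroup.mk' B)) :=
      Subgroup.relIndex_ker _ _
    rw [QuotientGroup.ker_mk'] at h1
    rw [hZ, ← h1, hr]
  obtain ⟨k, hk⟩ := mem_powers_of_prime_card (G := Z) hc (g := ⟨QuotientGroup.mk' B x, x, hx, rfl⟩)
    (g' := ⟨QuotientGroup.mk' B y, y, hy, rfl⟩) (fun h => hx' (by
      have h1 := congrArg Subtype.val h
      have h2 : x ∈ (QuotientGroup.mk' B).ker := h1
      rwa [QuotientGroup.ker_mk'] at h2))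
  refine ⟨k, ?_⟩
  have h1 : (QuotientGroup.mk' B x) ^ k = QuotientGroup.mk' B y := congrArg Subtype.val hk
  have h2 : (x ^ k)⁻¹ * y ∈ (QuotientGroup.mk' B).ker := by
    rw [MonoidHom.mem_ker, map_mul, map_inv, map_pow, h1, inv_mul_cancel]
  rwa [QuotientGroup.ker_mk'] at h2

section Det

variable {V : Type*} [CommGroup V] {p : ℕ} [hp : Fact p.Prime]

/-- the determinant of an automorphism of a group of exponent `p` -/
noncomputable def dt (hexp : ∀ x : V, x ^ p = 1) (a : MulAut V) : ZMod p :=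
  letI : Module (ZMod p) (Additive V) := AddCommGroup.zmodModule (n := p) (G := Additive V) (fun x => hexp x)
  LinearMap.det ((MonoidHom.toAdditive a.toMonoidHom).toZModLinearMap p)

theorem dt_one (hexp : ∀ x : V, x ^ p = 1) : dt hexp 1 = 1 := by
  let : Module (ZMod p) (Additive V) := AddCommGroup.zmodModule (n := p) (G := Additive V) (fun x => hexp x)
  show LinearMap.det ((MonoidHom.toAdditive (1 : MulAut V).toMonoidHom).toZModLinearMap p) = 1
  have h : ((MonoidHom.toAdditive (1 : MulAut V).toMonoidHom).toZModLinearMap p) = LinearMap.id := by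
    ext x
    rfl
  rw [h, LinearMap.det_id]

theorem dt_mul (hexp : ∀ x : V, x ^ p = 1) (a b : MulAut V) : dt hexp (a * b) = dt hexp a * dt hexp b := by
  let : Module (ZMod p) (Additive V) := AddCommGroup.zmodModule (n := p) (G := Additive V) (fun x => hexp x)
  show LinearMap.det ((MonoidHom.toAdditive (a * b : MulAut V).toMonoidHom).toZModLinearMap p) =
    LinearMap.det ((MonoidHom.toAdditive (a : MulAut V).toMonoidHom).toZModLinearMap p) *
    LinearMap.det ((MonoidHom.toAdditive (b : MulAut V).toMonoidHom).toZModLinearMap p)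
  rw [← LinearMap.det_comp]
  rfl

theorem dt_pow (hexp : ∀ x : V, x ^ p = 1) (a : MulAut V) (k : ℕ) : dt hexp (a ^ k) = dt hexp a ^ k := by
  induction k with
  | zero => rw [pow_zero, pow_zero, dt_one]
  | succ k ih => rw [pow_succ, pow_succ, dt_mul, ih]

theorem dt_inv (hexp : ∀ x : V, x ^ p = 1) (a : MulAut V) : dt hexp a * dt hexp a⁻¹ = 1 := by
  rw [← dt_mul, mul_inv_cancel, dt_one]

/-- automorphisms of determinant one -/
noncomputable def sl (hexp : ∀ x : V, x ^ p = 1) : Subgroup (MulAut V) where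
  carrier := {a | dt hexp a = 1}
  one_mem' := dt_one hexp
  mul_mem' := fun {a b} ha hb => by
    show dt hexp (a * b) = 1
    rw [dt_mul, show dt hexp a = 1 from ha, show dt hexp b = 1 from hb, one_mul]
  inv_mem' := fun {a} ha => by
    show dt hexp a⁻¹ = 1
    have h := dt_inv hexp a
    rwa [show dt hexp a = 1 from ha, one_mul] at h

theorem mem_sl {hexp : ∀ x : V, x ^ p = 1} {a : MulAut V} : a ∈ sl hexp ↔ dt hexp a = 1 := Iff.rfl

theorem conj_mem_sl {hexp : ∀ x : V, x ^ p = 1} {a g : MulAut V} (ha : a ∈ sl hexp) : g * a * g⁻¹ ∈ sl hexp := by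
  rw [mem_sl] at ha ⊢
  rw [dt_mul, dt_mul, ha, mul_one, dt_inv]

theorem mem_sl_of_pow {hexp : ∀ x : V, x ^ p = 1} {a : MulAut V} {m : ℕ} (h : a ^ p ^ m = 1) : a ∈ sl hexp := by
  rw [mem_sl]
  have h1 : dt hexp a ^ p ^ m = 1 := by rw [← dt_pow, h, dt_one]
  have h2 : dt hexp a ^ p ^ m = dt hexp a := ZMod.pow_card_pow _
  rw [← h2, h1]

theorem dt_of_span (hexp : ∀ x : V, x ^ p = 1) (hcard : Nat.card V = p ^ 3) {v₁ v₂ v₃ : V}
    (hspan : ∀ x, ∃ i j k : ℕ, x = v₁ ^ i * v₂ ^ j * v₃ ^ k) {a : MulAut V} {m₁ m₂ m₃ j k l : ℕ}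
    (e1 : a v₁ = v₁ ^ m₁) (e2 : a v₂ = v₂ ^ m₂ * v₁ ^ j) (e3 : a v₃ = v₃ ^ m₃ * v₂ ^ k * v₁ ^ l) :
    dt hexp a = m₁ * m₂ * m₃ := by
  let : Module (ZMod p) (Additive V) := AddCommGroup.zmodModule (n := p) (G := Additive V) (fun x => hexp x)
  have hfin : Finite V := Nat.finite_of_card_ne_zero (by rw [hcard]; exact pow_ne_zero _ hp.out.ne_zero)
  have hfr : Module.finrank (ZMod p) (Additive V) = 3 := by
    have h1 := Module.natCard_eq_pow_finrank (K := ZMod p) (V := Additive V)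
    have h2 : Nat.card (Additive V) = p ^ 3 := hcard
    rw [Nat.card_zmod, h2] at h1
    exact (Nat.pow_right_injective hp.out.two_le h1).symm
  let v : Fin 3 → Additive V := ![Additive.ofMul v₁, Additive.ofMul v₂, Additive.ofMul v₃]
  have hsp : (⊤ : Submodule (ZMod p) (Additive V)) ≤ Submodule.span (ZMod p) (Set.range v) := by
    intro x _
    obtain ⟨i, j, k, hx⟩ := hspan (Additive.toMul x)
    have hx' : x = i • v 0 + j • v 1 + k • v 2 := hx
    rw [hx']
    refine Submodule.add_mem _ (Submodule.add_mem _ ?_ ?_) ?_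
    · exact Submodule.smul_of_tower_mem _ i (Submodule.subset_span ⟨0, rfl⟩)
    · exact Submodule.smul_of_tower_mem _ j (Submodule.subset_span ⟨1, rfl⟩)
    · exact Submodule.smul_of_tower_mem _ k (Submodule.subset_span ⟨2, rfl⟩)
  let b := basisOfTopLeSpanOfCardEqFinrank v hsp (by rw [Fintype.card_fin, hfr])
  have hb : ∀ i, b i = v i := fun i => by
    rw [show b = basisOfTopLeSpanOfCardEqFinrank v hsp (by rw [Fintype.card_fin, hfr]) from rfl]
    rw [coe_basisOfTopLeSpanOfCardEqFinrank]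
  set f := (MonoidHom.toAdditive a.toMonoidHom).toZModLinearMap p with hf
  have f1 : f (b 0) = (m₁ : ZMod p) • b 0 := by
    rw [hb, Nat.cast_smul_eq_nsmul]
    exact e1
  have f2 : f (b 1) = (m₂ : ZMod p) • b 1 + (j : ZMod p) • b 0 := by
    rw [hb, hb, Nat.cast_smul_eq_nsmul, Nat.cast_smul_eq_nsmul]
    exact e2
  have f3 : f (b 2) = (m₃ : ZMod p) • b 2 + (k : ZMod p) • b 1 + (l : ZMod p) • b 0 := by
    rw [hb, hb, hb, Nat.cast_smul_eq_nsmul, Nat.cast_smul_eq_nsmul, Nat.cast_smul_eq_nsmul]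
    exact e3
  show LinearMap.det f = _
  rw [← LinearMap.det_toMatrix b f, Matrix.det_fin_three]
  simp only [LinearMap.toMatrix_apply, f1, f2, f3, map_add, map_smul, Module.Basis.repr_self, Finsupp.coe_add,
    Finsupp.coe_smul, Pi.add_apply, Pi.smul_apply, Finsupp.single_apply]
  simp

/-- determinant of an automorphism with an invariant flag -/
theorem dt_flag (hexp : ∀ x : V, x ^ p = 1) (hcard : Nat.card V = p ^ 3) {V₁ V₂ : Subgroup V} (h12 : V₁ ≤ V₂)
    (c1 : Nat.card V₁ = p) (c2 : Nat.card V₂ = p ^ 2) {v₁ v₂ v₃ : V} (hv₁ : v₁ ∈ V₁) (hv₁' : v₁ ≠ 1)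
    (hv₂ : v₂ ∈ V₂) (hv₂' : v₂ ∉ V₁) (hv₃' : v₃ ∉ V₂) {a : MulAut V} {m₁ m₂ m₃ : ℕ}
    (e1 : a v₁ = v₁ ^ m₁) (e2 : (v₂ ^ m₂)⁻¹ * a v₂ ∈ V₁) (e3 : (v₃ ^ m₃)⁻¹ * a v₃ ∈ V₂) :
    dt hexp a = m₁ * m₂ * m₃ := by
  have hpp := hp.out
  have g1 : ∀ y ∈ V₁, ∃ i : ℕ, y = v₁ ^ i := by
    intro y hy
    obtain ⟨i, hi⟩ := exists_pow_mul (A := V₁) (B := ⊥) (p := p) (by rw [Subgroup.relIndex_bot_left, c1]) hv₁
      (by rwa [Subgroup.mem_bot]) hy
    rw [Subgroup.mem_bot, inv_mul_eq_one] at hi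
    exact ⟨i, hi.symm⟩
  have r2 : V₁.relIndex V₂ = p := by
    have h1 := Subgroup.relIndex_mul_relIndex ⊥ V₁ V₂ bot_le h12
    rw [Subgroup.relIndex_bot_left, Subgroup.relIndex_bot_left, c1, c2, pow_two] at h1
    exact Nat.eq_of_mul_eq_mul_left hpp.pos h1
  have r3 : V₂.relIndex ⊤ = p := by
    have h1 := Subgroup.relIndex_mul_relIndex ⊥ V₂ ⊤ bot_le le_top
    rw [Subgroup.relIndex_bot_left, Subgroup.relIndex_bot_left, c2, Subgroup.card_top, hcard, pow_succ] at h1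
    exact Nat.eq_of_mul_eq_mul_left (pow_pos hpp.pos 2) h1
  have g2 : ∀ y ∈ V₂, ∃ i j : ℕ, y = v₂ ^ i * v₁ ^ j := by
    intro y hy
    obtain ⟨i, hi⟩ := exists_pow_mul r2 hv₂ hv₂' hy
    obtain ⟨j, hj⟩ := g1 _ hi
    exact ⟨i, j, by rw [← hj, mul_inv_cancel_left]⟩
  have g3 : ∀ y, ∃ i j k : ℕ, y = v₁ ^ i * v₂ ^ j * v₃ ^ k := by
    intro y
    obtain ⟨k, hk⟩ := exists_pow_mul r3 (Subgroup.mem_top v₃) hv₃' (Subgroup.mem_top y)
    obtain ⟨j, i, hi⟩ := g2 _ hk
    exact ⟨i, j, k, by rw [mul_comm (v₁ ^ i), ← hi, mul_comm, mul_inv_cancel_left]⟩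
  obtain ⟨j, hj⟩ := g1 _ e2
  obtain ⟨k, l, hl⟩ := g2 _ e3
  exact dt_of_span hexp hcard g3 e1 (j := j) (by rw [← hj, mul_inv_cancel_left]) (k := k) (l := l)
    (by rw [mul_assoc, ← hl, mul_inv_cancel_left])

end Det

end Cfsg.Agent.H80.TV
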