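import Cfsg.Agent.H80.TV2
import Cfsg.Agent.H80.TV3
import Cfsg.Agent.Fus.HeisSyl
import Cfsg.Agent.Fus.SatCrit

set_option autoImplicit false

/-! Essential subgroups which are elementary abelian of order `p ^ 3`, acted on by transvections. -/

namespace Cfsg.Agent.H80.TV

open Cfsg Cfsg.Agent Cfsg.Agent.Fus
open scoped IsMulCommutative

variable {Ω : Type*} [Group Ω] {S : Subgroup Ω} {p : ℕ} [hp : Fact p.Prime]

theorem exists_pow_mul' {A B : Subgroup Ω} (hab : ∀ a ∈ A, ∀ b ∈ A, a * b = b * a) (hBA : B ≤ A)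
    (hr : B.relIndex A = p) {x y : Ω} (hx : x ∈ A) (hx' : x ∉ B) (hy : y ∈ A) :
    ∃ k : ℕ, (x ^ k)⁻¹ * y ∈ B := by
  have : (B.subgroupOf A).Normal := by
    constructor
    intro b hb g
    have h1 : g * b * g⁻¹ = b := by
      have h2 : g * b = b * g := Subtype.ext (hab g g.2 b b.2)
      rw [h2, mul_inv_cancel_right]
    rwa [h1]
  obtain ⟨k, hk⟩ := exists_pow_mul (G := A) (A := ⊤) (B := B.subgroupOf A) (p := p)
    (by rw [Subgroup.relIndex_top_right]; exact hr) (x := ⟨x, hx⟩) (y := ⟨y, hy⟩) (Subgroup.mem_top _)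
    (by rwa [Subgroup.mem_subgroupOf]) (Subgroup.mem_top _)
  exact ⟨k, hk⟩

theorem conj_triv [Finite S] (hS : IsPGroup p S) {A B : Subgroup Ω} (hBA : B ≤ A) (hAS : A ≤ S)
    (hc : Nat.card A = p * Nat.card B) (hBn : ∀ a ∈ A, ∀ b ∈ B, a * b * a⁻¹ ∈ B) {n : Ω} (hn : n ∈ S)
    (hnA : ∀ a ∈ A, n * a * n⁻¹ ∈ A) (hnB : ∀ b ∈ B, n * b * n⁻¹ ∈ B) : ∀ a ∈ A, n * a * n⁻¹ * a⁻¹ ∈ B := by
  intro a ha
  obtain ⟨m, hm⟩ := hS ⟨n, hn⟩
  have h1 := FusSE.triv_on_factor (H := S) (p := p) (M := A.subgroupOf S) (N := B.subgroupOf S)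
    (fun x hx => hBA hx) (by
      constructor
      rintro ⟨⟨b, hbS⟩, hbA⟩ hb ⟨⟨g, hgS⟩, hgA⟩
      exact hBn g hgA b hb) (Or.inl (by
        rw [Nat.card_congr (Subgroup.subgroupOfEquivOfLe hAS).toEquiv,
          Nat.card_congr (Subgroup.subgroupOfEquivOfLe (hBA.trans hAS)).toEquiv, hc]))
    (α := MulAut.conj ⟨n, hn⟩) (fun x hx => hnA x hx) (fun x hx => hnB x hx) (m := m)
    (by rw [← map_pow, hm, map_one]) ⟨a, hAS ha⟩ ha
  exact h1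

/-- The conjugates of `E` in the Sylow subgroup. -/
theorem exists_conj_mem [Finite S] (hS : IsPGroup p S) {E Y : Subgroup Ω} (hES : E ≤ S) (hYS : Y ≤ S)
    (hcE : Nat.card E = p ^ 3) (hcY : Nat.card Y = p ^ 3) (hEab : ∀ a ∈ E, ∀ b ∈ E, a * b = b * a)
    (hYab : ∀ a ∈ Y, ∀ b ∈ Y, a * b = b * a) (hYn : ∀ s ∈ S, ∀ y ∈ Y, s * y * s⁻¹ ∈ Y)
    (hYE : ∀ y ∈ Y, ∀ e ∈ E, y * e * y⁻¹ ∈ E) (hI : Nat.card (E ⊓ Y : Subgroup Ω) = p ^ 2)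
    (hC : ∀ s ∈ S, (∀ e ∈ E, s * e = e * s) → s ∈ E) {w : Ω} (hw : w ∈ Y)
    (hN : ∀ g ∈ S, (∀ x ∈ E, g * x * g⁻¹ ∈ E) → ∃ k : ℕ, (w ^ k)⁻¹ * g ∈ E)
    (hcN : Nat.card (FusionSystem.normalizerIn S E) = p ^ 4)
    (hcS : p ^ 5 ≤ Nat.card S) {e : Ω} (he : e ∈ E) (heY : e ∉ Y) {y : Ω} (hy : y ∈ Y) :
    ∃ s ∈ S, (∀ h ∈ E ⊓ Y, s⁻¹ * h * s ∈ E) ∧ s⁻¹ * (y * e) * s ∈ E := by
  have hpp := hp.out
  have hfE : Finite E := finite_of_le hES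
  set N₁ := FusionSystem.normalizerIn S E with hN₁
  have hN₁S : N₁ ≤ S := normalizerIn_le E
  have hEN : E ≤ N₁ := le_normalizerIn hES
  have hYN : Y ≤ N₁ := fun y hy => mem_normalizerIn.2 ⟨hYS hy, mem_normalizer_of_conj (hYE y hy)⟩
  have hN₁E : ∀ g ∈ N₁, ∀ x ∈ E, g * x * g⁻¹ ∈ E := fun g hg x hx =>
    (Subgroup.mem_normalizer_iff.1 (mem_normalizerIn.1 hg).2 x).1 hx
  have hN₁S' : N₁ < S := by
    refine lt_of_le_of_ne hN₁S fun h => ?_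
    rw [← h, hcN] at hcS
    exact absurd hcS (not_le.2 (Nat.pow_lt_pow_right hpp.one_lt (by norm_num)))
  obtain ⟨n₀, hn₀, hn₀N⟩ := SetLike.exists_of_lt (lt_normalizerIn hS hN₁S')
  obtain ⟨hn₀S, hn₀n⟩ := mem_normalizerIn.1 hn₀
  -- elements normalizing `N₁` normalize `E ⊓ Y`
  have hHn : ∀ n ∈ S, n ∈ Subgroup.normalizer (N₁ : Set Ω) → ∀ h ∈ E ⊓ Y, n * h * n⁻¹ ∈ E ⊓ Y := by
    rintro n hn hnn h ⟨hhE, hhY⟩
    refine ⟨hC _ (S.mul_mem (S.mul_mem hn (hES hhE)) (S.inv_mem hn)) fun x hx => ?_, hYn n hn h hhY⟩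
    have h1 : n⁻¹ * x * n ∈ N₁ := (Subgroup.mem_normalizer_iff''.1 hnn x).1 (hEN hx)
    obtain ⟨k, hk⟩ := hN _ (hN₁S h1) (hN₁E _ h1)
    have h2 : h * (n⁻¹ * x * n) = n⁻¹ * x * n * h := by
      obtain ⟨u, hu⟩ : ∃ u, u = (w ^ k)⁻¹ * (n⁻¹ * x * n) := ⟨_, rfl⟩
      have h3 : n⁻¹ * x * n = w ^ k * u := by rw [hu]; group
      rw [← hu] at hk
      rw [h3]
      calc h * (w ^ k * u) = h * w ^ k * u := by group
        _ = w ^ k * (h * u) := by rw [hYab h hhY _ (Y.pow_mem hw k)]; group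
        _ = w ^ k * u * h := by rw [hEab h hhE _ hk]; group
    calc n * h * n⁻¹ * x = n * (h * (n⁻¹ * x * n)) * n⁻¹ := by group
      _ = n * (n⁻¹ * x * n * h) * n⁻¹ := by rw [h2]
      _ = x * (n * h * n⁻¹) := by group
  -- `b₀ = [n₀, e]`
  have hcYN : Nat.card N₁ = p * Nat.card Y := by rw [hcN, hcY]; ring
  have hcHY : Nat.card Y = p * Nat.card (E ⊓ Y : Subgroup Ω) := by rw [hI, hcY]; ring
  have hb₀Y : n₀ * e * n₀⁻¹ * e⁻¹ ∈ Y :=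
    conj_triv hS hYN hN₁S hcYN (fun a ha b hb => hYn a (hN₁S ha) b hb) hn₀S
      (fun a ha => (Subgroup.mem_normalizer_iff.1 hn₀n a).1 ha) (fun b hb => hYn n₀ hn₀S b hb) e (hEN he)
  have hF2 : ∀ b ∈ Y, n₀ * b * n₀⁻¹ * b⁻¹ ∈ E ⊓ Y :=
    conj_triv hS inf_le_right hYS hcHY (fun a ha b hb => by
      rw [hYab a ha b hb.2, mul_inv_cancel_right]; exact hb) hn₀S (fun a ha => hYn n₀ hn₀S a ha)
      (hHn n₀ hn₀S hn₀n)
  set b₀ := n₀ * e * n₀⁻¹ * e⁻¹ with hb₀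
  have hr1 : (E ⊓ Y).relIndex E = p := by
    have h1 := Subgroup.relIndex_mul_relIndex ⊥ (E ⊓ Y) E bot_le inf_le_left
    rw [Subgroup.relIndex_bot_left, Subgroup.relIndex_bot_left, hI, hcE] at h1
    exact Nat.eq_of_mul_eq_mul_left (pow_pos hpp.pos 2) (by rw [h1]; ring)
  have hr2 : (E ⊓ Y).relIndex Y = p := by
    have h1 := Subgroup.relIndex_mul_relIndex ⊥ (E ⊓ Y) Y bot_le inf_le_right
    rw [Subgroup.relIndex_bot_left, Subgroup.relIndex_bot_left, hI, hcY] at h1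
    exact Nat.eq_of_mul_eq_mul_left (pow_pos hpp.pos 2) (by rw [h1]; ring)
  have hn₀e : n₀ * e * n₀⁻¹ = b₀ * e := by rw [hb₀, inv_mul_cancel_right]
  have hb₀H : b₀ ∉ E ⊓ Y := by
    intro hcon
    apply hn₀N
    refine mem_normalizerIn.2 ⟨hn₀S, mem_normalizer_of_conj fun x hx => ?_⟩
    obtain ⟨k, hk⟩ := exists_pow_mul' hEab inf_le_left hr1 he (fun h => heY h.2) hx
    have h1 : x = e ^ k * ((e ^ k)⁻¹ * x) := by group
    rw [h1, ← conj_mul, ← conj_pow, hn₀e]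
    exact E.mul_mem (E.pow_mem (E.mul_mem hcon.1 he) k) (hHn n₀ hn₀S hn₀n _ hk).1
  have hind : ∀ k : ℕ, ∃ h ∈ E ⊓ Y, n₀ ^ k * e * (n₀ ^ k)⁻¹ = b₀ ^ k * h * e := by
    intro k
    induction k with
    | zero => exact ⟨1, Subgroup.one_mem _, by simp⟩
    | succ k ih =>
      obtain ⟨h, hh, hk⟩ := ih
      have h1 : n₀ * b₀ ^ k * n₀⁻¹ = (n₀ * b₀ ^ k * n₀⁻¹ * (b₀ ^ k)⁻¹) * b₀ ^ k := by group
      set h₁ := n₀ * b₀ ^ k * n₀⁻¹ * (b₀ ^ k)⁻¹ with hh₁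
      have hh₁m : h₁ ∈ E ⊓ Y := hF2 _ (Y.pow_mem hb₀Y k)
      have hh₂m := hHn n₀ hn₀S hn₀n h hh
      refine ⟨h₁ * (n₀ * h * n₀⁻¹), Subgroup.mul_mem _ hh₁m hh₂m, ?_⟩
      have h2 : n₀ ^ (k + 1) * e * (n₀ ^ (k + 1))⁻¹ = n₀ * (n₀ ^ k * e * (n₀ ^ k)⁻¹) * n₀⁻¹ := by
        rw [pow_succ']; group
      rw [h2, hk, ← conj_mul, ← conj_mul, h1, hn₀e]
      have h3 : (h₁ * (n₀ * h * n₀⁻¹)) * b₀ = b₀ * (h₁ * (n₀ * h * n₀⁻¹)) :=
        hYab _ (Y.mul_mem hh₁m.2 hh₂m.2) _ hb₀Y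
      have h4 : h₁ * b₀ ^ k = b₀ ^ k * h₁ := hYab _ hh₁m.2 _ (Y.pow_mem hb₀Y k)
      calc h₁ * b₀ ^ k * (n₀ * h * n₀⁻¹) * (b₀ * e) = b₀ ^ k * ((h₁ * (n₀ * h * n₀⁻¹)) * b₀) * e := by
            rw [h4]; group
        _ = b₀ ^ (k + 1) * (h₁ * (n₀ * h * n₀⁻¹)) * e := by rw [h3, pow_succ]; group
  obtain ⟨k, hk⟩ := exists_pow_mul' hYab inf_le_right hr2 hb₀Y hb₀H hy
  obtain ⟨h, hh, hk2⟩ := hind k
  have hsS : n₀ ^ k ∈ S := S.pow_mem hn₀S k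
  have hsn : (n₀ ^ k)⁻¹ ∈ Subgroup.normalizer (N₁ : Set Ω) :=
    Subgroup.inv_mem _ (Subgroup.pow_mem _ hn₀n k)
  have hHs : ∀ h ∈ E ⊓ Y, (n₀ ^ k)⁻¹ * h * n₀ ^ k ∈ E ⊓ Y := fun h hh => by
    have := hHn _ (S.inv_mem hsS) hsn h hh
    rwa [inv_inv] at this
  refine ⟨n₀ ^ k, hsS, fun h hh => (hHs h hh).1, ?_⟩
  set h₃ := (b₀ ^ k)⁻¹ * y with hh₃
  have h1 : y * e = (n₀ ^ k * e * (n₀ ^ k)⁻¹) * (h⁻¹ * h₃) := by
    have h2 : y = b₀ ^ k * h₃ := by rw [hh₃]; group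
    have h3 : e * (h⁻¹ * h₃) = (h⁻¹ * h₃) * e := hEab _ he _ (E.mul_mem (E.inv_mem hh.1) hk.1)
    rw [hk2, mul_assoc, h3, h2]
    group
  rw [h1]
  have h4 : (n₀ ^ k)⁻¹ * (n₀ ^ k * e * (n₀ ^ k)⁻¹ * (h⁻¹ * h₃)) * n₀ ^ k =
      e * ((n₀ ^ k)⁻¹ * (h⁻¹ * h₃) * n₀ ^ k) := by group
  rw [h4]
  exact E.mul_mem he (hHs _ (Subgroup.mul_mem _ (Subgroup.inv_mem _ hh) hk)).1

variable {F : FusionSystem S} {E : Subgroup Ω}

theorem aut_le_zpowers [Finite S] (hS : IsPGroup p S) (hE : F.IsEssential p E) [IsMulCommutative E] {W : Subgroup Ω}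
    (hWn : ∀ s ∈ S, ∀ w ∈ W, s * w * s⁻¹ ∈ W) (hWS : W ≤ S) {t : MulAut E} (htv : Tv (V := E) p t)
    (htW : t ∈ autInducedBy W E) (hW : autInducedBy W E ≤ Subgroup.zpowers t) :
    autInducedBy S E ≤ Subgroup.zpowers t := by
  have hfE : Finite E := finite_of_le hE.1.1
  have hfA := finite_mulAut (P := E)
  have hzc : Nat.card (Subgroup.zpowers t) = p := by
    rw [Nat.card_zpowers]
    exact orderOf_eq_prime htv.pow_eq_one htv.ne_one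
  have hconj : ∀ u ∈ autInducedBy S E, u * t * u⁻¹ ∈ Subgroup.zpowers t := by
    intro u hu
    obtain ⟨s, hs, hsu⟩ := mem_autInducedBy'.1 hu
    obtain ⟨w, hw, hwt⟩ := mem_autInducedBy'.1 htW
    refine hW (mem_autInducedBy'.2 ⟨s * w * s⁻¹, hWn s hs w hw, fun x hx => ?_⟩)
    have hx' : ofAut u⁻¹ x ∈ E := ofAut_mem _ hx
    have h1 : x = s * ofAut u⁻¹ x * s⁻¹ := by rw [← hsu _ hx', ofAut_apply_inv _ hx]
    rw [ofAut_mul _ _ hx, ofAut_mul _ _ hx', hsu _ (ofAut_mem _ hx'), hwt _ hx']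
    conv_rhs => rw [h1]
    group
  have hcomm : ∀ u ∈ autInducedBy S E, u * t = t * u := by
    intro u hu
    obtain ⟨m, hm⟩ := (isPGroup_autInducedBy hS E) ⟨u, hu⟩
    have hm' : u ^ p ^ m = 1 := congrArg Subtype.val hm
    have h1 := FusSE.triv_on_factor (H := MulAut E) (p := p) (M := Subgroup.zpowers t) (N := ⊥) bot_le inferInstance
      (Or.inl (by rw [hzc, Subgroup.card_bot, mul_one])) (α := MulAut.conj u) (by
        rintro _ ⟨k, rfl⟩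
        show u * t ^ k * u⁻¹ ∈ _
        rw [← conj_zpow]
        exact Subgroup.zpow_mem _ (hconj u hu) k) (by
        intro x hx
        rw [Subgroup.mem_bot] at hx ⊢
        rw [hx, map_one]) (m := m) (by rw [← map_pow, hm', map_one]) t (Subgroup.mem_zpowers t)
    rw [Subgroup.mem_bot, mul_inv_eq_one] at h1
    have h2 : u * t * u⁻¹ = t := h1
    calc u * t = u * t * u⁻¹ * u := by group
      _ = t * u := by rw [h2]
  exact le_zpowers (V := E) (hS.to_le hE.1.1) (seOut_of_essential hE) (autInducedBy_le_autGroup hE.1.1)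
    (isPGroup_autInducedBy hS E) (autInducedBy_mono hWS htW) htv hcomm

theorem card_normalizer_le [Finite S] (hE : F.IsEssential p E) [IsMulCommutative E] {t : MulAut E}
    (htv : Tv (V := E) p t) (h : autInducedBy S E ≤ Subgroup.zpowers t) :
    Nat.card (FusionSystem.normalizerIn S E) ≤ p * Nat.card E := by
  have hfE : Finite E := finite_of_le hE.1.1
  have hfA := finite_mulAut (P := E)
  have hzc : Nat.card (Subgroup.zpowers t) = p := by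
    rw [Nat.card_zpowers]
    exact orderOf_eq_prime htv.pow_eq_one htv.ne_one
  rw [card_induced (S := S) (R := E) le_rfl (centralizerIn_le_normalizerIn E)]
  refine Nat.mul_le_mul ?_ ?_
  · rw [← hzc]
    exact Subgroup.card_le_of_le ((autInducedBy_mono (normalizerIn_le E)).trans h)
  · exact Subgroup.card_le_of_le (centric_self_le hE.1)

theorem ofAut_pow_conj {t : MulAut E} {w : Ω} (hwt : ∀ x ∈ E, ofAut t x = w * x * w⁻¹) (k : ℕ) {x : Ω} (hx : x ∈ E) :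
    ofAut (t ^ k) x = w ^ k * x * (w ^ k)⁻¹ := by
  induction k with
  | zero => rw [pow_zero, ofAut_one hx]; simp
  | succ k ih =>
    rw [pow_succ', ofAut_mul _ _ hx, hwt _ (ofAut_mem _ hx), ih, pow_succ']
    group

theorem exists_pow_normalizer [Finite S] (hE : F.IsEssential p E) [IsMulCommutative E] {t : MulAut E}
    (h : autInducedBy S E ≤ Subgroup.zpowers t) {w : Ω} (hwS : w ∈ S)
    (hwt : ∀ x ∈ E, ofAut t x = w * x * w⁻¹) {g : Ω} (hg : g ∈ S) (hgE : ∀ x ∈ E, g * x * g⁻¹ ∈ E) :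
    ∃ k : ℕ, (w ^ k)⁻¹ * g ∈ E := by
  have hfE : Finite E := finite_of_le hE.1.1
  have hfA := finite_mulAut (P := E)
  have h1 := h (conjAut_mem (P := E) hg (mem_normalizer_of_conj hgE))
  rw [← mem_powers_iff_mem_zpowers] at h1
  obtain ⟨k, hk⟩ := h1
  refine ⟨k, centric_self_le hE.1 (mem_centralizerIn.2 ⟨S.mul_mem (S.inv_mem (S.pow_mem hwS k)) hg, fun x hx => ?_⟩)⟩
  have h2 : w ^ k * x * (w ^ k)⁻¹ = g * x * g⁻¹ := by
    rw [← ofAut_pow_conj hwt k hx, ← ofAut_conjAut g (mem_normalizer_of_conj hgE) hx, ← hk]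
  calc x * ((w ^ k)⁻¹ * g) = (w ^ k)⁻¹ * (w ^ k * x * (w ^ k)⁻¹) * g := by group
    _ = (w ^ k)⁻¹ * g * x := by rw [h2]; group

end Cfsg.Agent.H80.TV
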