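import Cfsg.Agent.H80.TV4

set_option autoImplicit false

/-! The torus automorphism of the normal subgroup `Y` acting on an essential subgroup `E` as transvections. -/

namespace Cfsg.Agent.H80.TV

open Cfsg Cfsg.Agent Cfsg.Agent.Fus
open scoped IsMulCommutative

variable {Ω : Type*} [Group Ω] {S : Subgroup Ω} {F : FusionSystem S} {p : ℕ} [hp : Fact p.Prime] {E : Subgroup Ω}

theorem core [Finite S] (hS : IsPGroup p S) (hF : F.IsSaturated p) (hE : F.IsEssential p E) [IsMulCommutative E]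
    (hcE : Nat.card E = p ^ 3) (hcS : p ^ 5 ≤ Nat.card S) {Y : Subgroup Ω} (hYS : Y ≤ S)
    (hYn : ∀ s ∈ S, ∀ y ∈ Y, s * y * s⁻¹ ∈ Y) (hcY : Nat.card Y = p ^ 3) (hYab : ∀ a ∈ Y, ∀ b ∈ Y, a * b = b * a)
    (hYE : ∀ y ∈ Y, ∀ e ∈ E, y * e * y⁻¹ ∈ E) (hI : Nat.card (E ⊓ Y : Subgroup Ω) = p ^ 2) :
    ∃ C : Subgroup Ω, C ≤ E ⊓ Y ∧ Nat.card C = p ∧ (∀ y ∈ Y, ∀ e ∈ E, y * e * y⁻¹ * e⁻¹ ∈ C) ∧
      ∀ x y : ℕ, x * y ≡ 1 [MOD p] → ∃ θ ∈ F.autGroup Y, (∀ z ∈ C, ofAut θ z = z ^ x) ∧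
        (∀ z ∈ E ⊓ Y, ofAut θ z * z⁻¹ ∈ C) ∧ (∀ z ∈ Y, (z ^ (x ^ 2))⁻¹ * ofAut θ z ∈ E ⊓ Y) := by
  have hpp := hp.out
  have hES := hE.1.1
  have hfE : Finite E := finite_of_le hES
  have hfY : Finite Y := finite_of_le hYS
  have hfA := finite_mulAut (P := E)
  have hEab : ∀ a ∈ E, ∀ b ∈ E, a * b = b * a := fun a ha b hb =>
    congrArg Subtype.val (mul_comm (⟨a, ha⟩ : E) ⟨b, hb⟩)
  have hC : ∀ s ∈ S, (∀ e ∈ E, s * e = e * s) → s ∈ E := fun s hs h =>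
    centric_self_le hE.1 (mem_centralizerIn.2 ⟨hs, fun x hx => (h x hx).symm⟩)
  have hr1 : (E ⊓ Y).relIndex E = p := by
    have h1 := Subgroup.relIndex_mul_relIndex ⊥ (E ⊓ Y) E bot_le inf_le_left
    rw [Subgroup.relIndex_bot_left, Subgroup.relIndex_bot_left, hI, hcE] at h1
    exact Nat.eq_of_mul_eq_mul_left (pow_pos hpp.pos 2) (by rw [h1]; ring)
  have hr2 : (E ⊓ Y).relIndex Y = p := by
    have h1 := Subgroup.relIndex_mul_relIndex ⊥ (E ⊓ Y) Y bot_le inf_le_right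
    rw [Subgroup.relIndex_bot_left, Subgroup.relIndex_bot_left, hI, hcY] at h1
    exact Nat.eq_of_mul_eq_mul_left (pow_pos hpp.pos 2) (by rw [h1]; ring)
  -- an element of `Y` outside `E`
  obtain ⟨w, hwY, hwE⟩ : ∃ w ∈ Y, w ∉ E := by
    by_contra hcon
    push Not at hcon
    rw [Subgroup.relIndex_eq_one.2 (le_inf hcon le_rfl)] at hr2
    exact hpp.ne_one hr2.symm
  have hwS := hYS hwY
  have hwn : w ∈ Subgroup.normalizer (E : Set Ω) := mem_normalizer_of_conj (hYE w hwY)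
  obtain ⟨t, ht⟩ : ∃ t : MulAut E, t = conjAut w hwn := ⟨_, rfl⟩
  have hwt : ∀ x ∈ E, ofAut t x = w * x * w⁻¹ := fun x hx => by rw [ht]; exact ofAut_conjAut w hwn hx
  have hwt' : ∀ x : E, ((t x : E) : Ω) = w * x * w⁻¹ := fun x => by rw [← ofAut_coe, hwt _ x.2]
  -- the axis
  have hle : (E ⊓ Y).subgroupOf E ≤ ax (V := E) t := by
    intro x hx
    have hx' : (x : Ω) ∈ E ⊓ Y := hx
    refine Subtype.ext ?_
    rw [hwt', hYab w hwY x hx'.2, mul_inv_cancel_right]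
  have hidx : (ax (V := E) t).index = p := by
    have h1 := Subgroup.relIndex_mul_index hle
    have h2 : ((E ⊓ Y).subgroupOf E).index = p := hr1
    rw [h2] at h1
    rcases (Nat.dvd_prime hpp).1 (Dvd.intro_left _ h1) with h3 | h3
    · exfalso
      apply hwE
      rw [Subgroup.index_eq_one] at h3
      refine hC w hwS fun e he => ?_
      have h4 : (⟨e, he⟩ : E) ∈ ax (V := E) t := by rw [h3]; exact Subgroup.mem_top _
      have h5 : t ⟨e, he⟩ = ⟨e, he⟩ := h4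
      have h6 := hwt' ⟨e, he⟩
      rw [h5] at h6
      have h7 : e = w * e * w⁻¹ := h6
      calc w * e = w * e * w⁻¹ * w := by group
        _ = e * w := by rw [← h7]
    · exact h3
  have hax : ax (V := E) t = (E ⊓ Y).subgroupOf E := by
    have h1 := Subgroup.relIndex_mul_index hle
    have h2 : ((E ⊓ Y).subgroupOf E).index = p := hr1
    rw [h2, hidx] at h1
    have h3 : ((E ⊓ Y).subgroupOf E).relIndex (ax (V := E) t) = 1 :=
      Nat.eq_of_mul_eq_mul_right hpp.pos (by rw [h1, one_mul])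
    exact le_antisymm (Subgroup.relIndex_eq_one.1 h3) hle
  have hcnle : cn (V := E) t ≤ ax (V := E) t := by
    rintro _ ⟨x, rfl⟩
    rw [hax]
    show ((t x * x⁻¹ : E) : Ω) ∈ E ⊓ Y
    refine ⟨(t x * x⁻¹ : E).2, ?_⟩
    show ((t x : E) : Ω) * (x : Ω)⁻¹ ∈ Y
    rw [hwt', show w * x * w⁻¹ * (x : Ω)⁻¹ = w * ((x : Ω) * w⁻¹ * (x : Ω)⁻¹) by group]
    exact Y.mul_mem hwY (hYn x (hES x.2) _ (Y.inv_mem hwY))
  have htv : Tv (V := E) p t := ⟨by rw [← index_ax, hidx], hcnle⟩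
  -- `Y` induces `⟨t⟩`
  have hwH : w ∉ E ⊓ Y := fun h => hwE h.1
  have hYdec : ∀ y ∈ Y, ∃ (k : ℕ) (h : Ω), h ∈ E ⊓ Y ∧ y = w ^ k * h := by
    intro y hy
    obtain ⟨k, hk⟩ := exists_pow_mul' hYab inf_le_right hr2 hwY hwH hy
    exact ⟨k, _, hk, by group⟩
  have hYt : ∀ (k : ℕ) (h : Ω), h ∈ E ⊓ Y → ∀ x ∈ E, (w ^ k * h) * x * (w ^ k * h)⁻¹ = ofAut (t ^ k) x := by
    intro k h hh x hx
    rw [ofAut_pow_conj hwt k hx]
    have h1 : h * x = x * h := hEab h hh.1 x hx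
    calc (w ^ k * h) * x * (w ^ k * h)⁻¹ = w ^ k * (h * x) * h⁻¹ * (w ^ k)⁻¹ := by group
      _ = w ^ k * x * (w ^ k)⁻¹ := by rw [h1]; group
  have hYle : autInducedBy Y E ≤ Subgroup.zpowers t := by
    intro α hα
    obtain ⟨y, hy, hyα⟩ := mem_autInducedBy'.1 hα
    obtain ⟨k, h, hh, rfl⟩ := hYdec y hy
    have h1 : α = t ^ k := ofAut_injective fun x hx => by rw [hyα x hx, hYt k h hh x hx]
    rw [h1]
    exact Subgroup.pow_mem _ (Subgroup.mem_zpowers t) k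
  have hSle : autInducedBy S E ≤ Subgroup.zpowers t :=
    aut_le_zpowers hS hE hYn hYS htv (mem_autInducedBy'.2 ⟨w, hwY, hwt⟩) hYle
  have hcN1 := card_normalizer_le hE htv hSle
  rw [hcE] at hcN1
  have hN : ∀ g ∈ S, (∀ x ∈ E, g * x * g⁻¹ ∈ E) → ∃ k : ℕ, (w ^ k)⁻¹ * g ∈ E := fun g hg hgE =>
    exists_pow_normalizer hE hSle hwS hwt hg hgE
  set N := FusionSystem.normalizerIn S E with hNdef
  have hEN : E ≤ N := le_normalizerIn hES
  have hYN : Y ≤ N := fun y hy => mem_normalizerIn.2 ⟨hYS hy, mem_normalizer_of_conj (hYE y hy)⟩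
  have hfN : Finite N := finite_of_le (normalizerIn_le E)
  have hcN : Nat.card N = p ^ 4 := by
    have h1 : Nat.card N ≠ p ^ 3 := by
      intro h
      have h2 : E = N := Subgroup.eq_of_le_of_card_ge hEN (by rw [h, hcE])
      exact hwE (h2 ▸ hYN hwY)
    have h2 : p ^ 3 ∣ Nat.card N := by rw [← hcE]; exact Subgroup.card_dvd_of_le hEN
    have h3 : IsPGroup p N := hS.to_le (normalizerIn_le E)
    obtain ⟨m, hm⟩ := IsPGroup.iff_card.mp h3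
    rw [hm] at h1 h2 hcN1 ⊢
    have h4 : 3 ≤ m := (Nat.pow_dvd_pow_iff_le_right hpp.one_lt).1 h2
    have h5 : p ^ m ≤ p ^ 4 := hcN1.trans_eq (by ring)
    have h6 : m ≤ 4 := (Nat.pow_le_pow_iff_right hpp.one_lt).1 h5
    have h7 : m ≠ 3 := fun h => h1 (by rw [h])
    have : m = 4 := by omega
    rw [this]
  refine ⟨(cn (V := E) t).map E.subtype, ?_, ?_, ?_, ?_⟩
  · rintro _ ⟨c, hc, rfl⟩
    have h1 := hcnle hc
    rw [hax] at h1
    exact h1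
  · rw [Subgroup.card_map_of_injective E.subtype_injective, htv.card]
  · intro y hy e he
    obtain ⟨k, h, hh, rfl⟩ := hYdec y hy
    rw [hYt k h hh e he]
    refine ⟨(t ^ k) ⟨e, he⟩ * ⟨e, he⟩⁻¹, ?_, ?_⟩
    · rw [pow_apply (V := E) hcnle, mul_comm (⟨e, he⟩ : E), mul_inv_cancel_right]
      exact Subgroup.pow_mem _ (mem_cn (V := E) t _) k
    · show (((t ^ k) ⟨e, he⟩ : E) : Ω) * e⁻¹ = _
      rw [ofAut_apply _ he]
  intro x y hxy
  obtain ⟨τ, hτ, hτ1, hτ2, hτ3⟩ := exists_torus (V := E) (hS.to_le hES) (seOut_of_essential hE)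
    (autInducedBy_le_autGroup hES (mem_autInducedBy'.2 ⟨w, hwS, hwt⟩)) htv hxy
  have hττ : ∀ (k : ℕ) (z : Ω), z ∈ E → ofAut τ (ofAut (t ^ k) z) = ofAut (t ^ (x ^ 2 * k)) (ofAut τ z) := by
    intro k z hz
    have h1 : τ * t ^ k = t ^ (x ^ 2 * k) * τ := by
      rw [pow_mul, ← hτ3, conj_pow]
      group
    rw [← ofAut_mul _ _ hz, h1, ofAut_mul _ _ hz]
  have hmapE : IsMap F E (ofAut τ) := isMap_ofAut hES hτ
  have himgE : img E (ofAut τ) = E := hmapE.img_eq fun x hx => ofAut_mem _ hx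
  obtain ⟨g, hg, hgE⟩ := recep_exists_extend_of_le (sat_receptive' hS hF hE.2.1) hmapE himgE hEN (by
    intro n hn
    obtain ⟨hnS, hnn⟩ := mem_normalizerIn.1 hn
    obtain ⟨k, hk⟩ := hN n hnS (fun x hx => (Subgroup.mem_normalizer_iff.1 hnn x).1 hx)
    refine ⟨hnS, hnn, w ^ (x ^ 2 * k), S.pow_mem hwS _, fun z hz => ?_⟩
    have h1 : n * z * n⁻¹ = ofAut (t ^ k) z := by
      rw [ofAut_pow_conj hwt k hz]
      have h2 := hEab _ hk z hz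
      calc n * z * n⁻¹ = w ^ k * ((w ^ k)⁻¹ * n * z) * n⁻¹ := by group
        _ = w ^ k * z * (w ^ k)⁻¹ := by rw [h2]; group
    rw [h1, hττ k z hz, ofAut_pow_conj hwt _ (ofAut_mem _ hz)])
  have hgw : g w ∈ S := hg.mem (hYN hwY)
  -- `g w = w ^ (x ^ 2) e₀`
  obtain ⟨e₀, he₀⟩ : ∃ e₀, e₀ = (w ^ (x ^ 2))⁻¹ * g w := ⟨_, rfl⟩
  have hgw' : g w = w ^ (x ^ 2) * e₀ := by rw [he₀]; group
  have he₀E : e₀ ∈ E := by
    refine hC e₀ (he₀ ▸ S.mul_mem (S.inv_mem (S.pow_mem hwS _)) hgw) fun e he => ?_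
    have he' : ofAut τ⁻¹ e ∈ E := ofAut_mem _ he
    have h1 : g (w * ofAut τ⁻¹ e * w⁻¹) = g w * e * (g w)⁻¹ := by
      rw [hg.map_conj (hYN hwY) (hEN he'), hgE _ he', ofAut_apply_inv _ he]
    have h2 : g (w * ofAut τ⁻¹ e * w⁻¹) = w ^ (x ^ 2) * e * (w ^ (x ^ 2))⁻¹ := by
      have h3 : w * ofAut τ⁻¹ e * w⁻¹ = ofAut (t ^ 1) (ofAut τ⁻¹ e) := by rw [pow_one, hwt _ he']
      rw [h3, hgE _ (ofAut_mem _ he'), hττ 1 _ he', mul_one, ofAut_apply_inv _ he, ofAut_pow_conj hwt _ he]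
    rw [h1] at h2
    calc e₀ * e = (w ^ (x ^ 2))⁻¹ * (g w * e * (g w)⁻¹) * g w := by rw [he₀]; group
      _ = e * e₀ := by rw [h2, he₀]; group
  have hτH : ∀ h ∈ E ⊓ Y, g h * h⁻¹ ∈ (cn (V := E) t).map E.subtype := by
    intro h hh
    have h1 : (⟨h, hh.1⟩ : E) ∈ ax (V := E) t := by rw [hax]; exact hh
    refine ⟨_, hτ2 _ h1, ?_⟩
    show ((τ ⟨h, hh.1⟩ : E) : Ω) * h⁻¹ = _
    rw [hgE h hh.1, ofAut_apply _ hh.1]
  have hCH : (cn (V := E) t).map E.subtype ≤ E ⊓ Y := by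
    rintro _ ⟨c, hc, rfl⟩
    have h1 := hcnle hc
    rw [hax] at h1
    exact h1
  have hgH : ∀ h ∈ E ⊓ Y, g h ∈ E ⊓ Y := by
    intro h hh
    have h1 := (E ⊓ Y).mul_mem (hCH (hτH h hh)) hh
    rwa [inv_mul_cancel_right] at h1
  have hgY : ∀ (k : ℕ) (h : Ω), h ∈ E ⊓ Y → g (w ^ k * h) = (w ^ (x ^ 2) * e₀) ^ k * g h := by
    intro k h hh
    rw [hg.map_mul (hYN (Y.pow_mem hwY k)) (hYN hh.2), hg.map_pow (hYN hwY), hgw']
  have he₀Y : e₀ ∈ Y := by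
    by_contra he₀Y
    obtain ⟨s, hsS, hs1, hs2⟩ := exists_conj_mem hS hES hYS hcE hcY hEab hYab hYn hYE hI hC hwY hN hcN hcS he₀E he₀Y
      (Y.pow_mem hwY (x ^ 2))
    -- `s⁻¹ g(Y) s = E`
    have hmap : IsMap F Y (fun z => s⁻¹ * g z * s⁻¹⁻¹) :=
      (isMap_conj (F := F) (P := S) le_rfl (S.inv_mem hsS)).comp (hg.mono hYN) fun z hz => hg.mem (hYN hz)
    have hin : ∀ z ∈ Y, s⁻¹ * g z * s⁻¹⁻¹ ∈ E := by
      intro z hz
      obtain ⟨k, h, hh, rfl⟩ := hYdec z hz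
      rw [hgY k h hh, inv_inv]
      have h1 : s⁻¹ * ((w ^ (x ^ 2) * e₀) ^ k * g h) * s = (s⁻¹ * (w ^ (x ^ 2) * e₀) * s) ^ k * (s⁻¹ * g h * s) := by
        have h2 := conj_pow (i := k) (a := s⁻¹) (b := w ^ (x ^ 2) * e₀)
        rw [inv_inv] at h2
        rw [h2]
        group
      rw [h1]
      exact E.mul_mem (E.pow_mem hs2 k) (hs1 _ (hgH h hh))
    have himg : img Y (fun z => s⁻¹ * g z * s⁻¹⁻¹) = E := by
      refine Subgroup.eq_of_le_of_card_ge (hmap.img_le_iff.2 hin) ?_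
      rw [hmap.card_img, hcY, hcE]
    have hconj : F.IsConj E Y := isConj_symm (himg ▸ hmap.isConj)
    have h1 := hE.2.1.2 Y hconj
    have h2 : FusionSystem.normalizerIn S Y = S :=
      le_antisymm (normalizerIn_le Y) fun s hs => mem_normalizerIn.2 ⟨hs, mem_normalizer_of_conj (hYn s hs)⟩
    rw [h2] at h1
    have h3 : p ^ 5 ≤ p ^ 4 := hcS.trans (h1.trans hcN.le)
    exact absurd h3 (not_le.2 (Nat.pow_lt_pow_right hpp.one_lt (by norm_num)))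
  have hgYY : ∀ z ∈ Y, g z ∈ Y := by
    intro z hz
    obtain ⟨k, h, hh, rfl⟩ := hYdec z hz
    rw [hgY k h hh]
    exact Y.mul_mem (Y.pow_mem (Y.mul_mem (Y.pow_mem hwY _) he₀Y) k) (hgH h hh).2
  obtain ⟨θ, hθ, hθg⟩ := (hg.mono hYN).exists_aut ((hg.mono hYN).img_eq hgYY)
  refine ⟨θ, hθ, ?_, ?_, ?_⟩
  · intro z hz
    have hzY := (hCH hz).2
    have hzE := (hCH hz).1
    rw [hθg z hzY, hgE z hzE, ofAut_apply _ hzE]
    obtain ⟨c, hc, hcz⟩ := hz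
    have h1 : (⟨z, hzE⟩ : E) = c := Subtype.ext hcz.symm
    rw [h1, hτ1 c hc]
    rw [← hcz]
    rfl
  · intro z hz
    rw [hθg z hz.2]
    exact hτH z hz
  · intro z hz
    rw [hθg z hz]
    obtain ⟨k, h, hh, rfl⟩ := hYdec z hz
    rw [hgY k h hh]
    have c1 : Commute (w ^ k) h := hYab _ (Y.pow_mem hwY k) _ hh.2
    have c2 : Commute (w ^ (x ^ 2)) e₀ := hYab _ (Y.pow_mem hwY _) _ he₀Y
    rw [c1.mul_pow, c2.mul_pow, ← pow_mul, ← pow_mul, mul_comm (x ^ 2) k]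
    have c3 : (w ^ (k * x ^ 2) * h ^ (x ^ 2))⁻¹ * (w ^ (k * x ^ 2) * e₀ ^ k * g h) = (h ^ (x ^ 2))⁻¹ * (e₀ ^ k * g h) := by
      group
    rw [c3]
    exact (E ⊓ Y).mul_mem ((E ⊓ Y).inv_mem ((E ⊓ Y).pow_mem hh _))
      ((E ⊓ Y).mul_mem ((E ⊓ Y).pow_mem ⟨he₀E, he₀Y⟩ _) (hgH h hh))

end Cfsg.Agent.H80.TV
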