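import Cfsg.Agent.H80.TV3
import Cfsg.Agent.H72.MC11

set_option autoImplicit false

/-! p-groups of maximal class: eigenvalues of automorphisms on the lower central factors. -/

namespace Cfsg.Agent.H80.TV

open Subgroup
open scoped commutatorElement
open Cfsg.Agent.H72.MC

theorem step0 {G : Type*} [Group G] {s v c d : G} {a m : ℕ} (hz : ∀ g : G, g * ⁅s, v⁆ = ⁅s, v⁆ * g)
    (hc : c * v = v * c) (hd : ∀ g : G, g * d = d * g) : ⁅s ^ a * c, v ^ m * d⁆ = ⁅s, v⁆ ^ (a * m) := by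
  obtain ⟨z, hzdef⟩ : ∃ z, z = ⁅s, v⁆ := ⟨_, rfl⟩
  rw [← hzdef] at hz ⊢
  have h1 : s * v * s⁻¹ = z * v := by rw [hzdef, commutatorElement_def]; group
  have hzv : Commute z v := (hz v).symm
  have h2 : s * v ^ m * s⁻¹ = z ^ m * v ^ m := by rw [← conj_pow, h1, hzv.mul_pow]
  have h3 : s ^ a * v ^ m * (s ^ a)⁻¹ = z ^ (a * m) * v ^ m := by
    induction a with
    | zero => simp
    | succ a ih =>
      have hzs : Commute s (z ^ (a * m)) := (show Commute s z from hz s).pow_right _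
      calc s ^ (a + 1) * v ^ m * (s ^ (a + 1))⁻¹ = s * (s ^ a * v ^ m * (s ^ a)⁻¹) * s⁻¹ := by
            rw [pow_succ']; group
        _ = (s * z ^ (a * m)) * v ^ m * s⁻¹ := by rw [ih]; group
        _ = z ^ (a * m) * (s * v ^ m * s⁻¹) := by rw [hzs.eq]; group
        _ = z ^ ((a + 1) * m) * v ^ m := by rw [h2, ← mul_assoc, ← pow_add]; congr 2; ring
  have hcm : Commute c (v ^ m) := (show Commute c v from hc).pow_right m
  calc ⁅s ^ a * c, v ^ m * d⁆ = s ^ a * (c * v ^ m) * (d * (c⁻¹ * (s ^ a)⁻¹)) * d⁻¹ * (v ^ m)⁻¹ := by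
        rw [commutatorElement_def]; group
    _ = s ^ a * (v ^ m * c) * ((c⁻¹ * (s ^ a)⁻¹) * d) * d⁻¹ * (v ^ m)⁻¹ := by rw [hcm.eq, hd (c⁻¹ * (s ^ a)⁻¹)]
    _ = (s ^ a * v ^ m * (s ^ a)⁻¹) * (v ^ m)⁻¹ := by group
    _ = z ^ (a * m) := by rw [h3, mul_inv_cancel_right]

theorem step {G : Type*} [Group G] {N : Subgroup G} [hN : N.Normal] {s v c d : G} {a m : ℕ}
    (hz : ∀ g : G, ⁅g, ⁅s, v⁆⁆ ∈ N) (hc : ⁅c, v⁆ ∈ N) (hd : ∀ g : G, ⁅g, d⁆ ∈ N) :
    (⁅s, v⁆ ^ (a * m))⁻¹ * ⁅s ^ a * c, v ^ m * d⁆ ∈ N := by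
  have hq : ∀ x y : G, ⁅x, y⁆ ∈ N → (x : G ⧸ N) * y = y * x := by
    intro x y h
    rw [← commutatorElement_eq_one_iff_mul_comm]
    exact (QuotientGroup.eq_one_iff _).2 h
  have h0 := step0 (s := (s : G ⧸ N)) (v := (v : G ⧸ N)) (c := (c : G ⧸ N)) (d := (d : G ⧸ N)) (a := a) (m := m)
    (fun g => by
      obtain ⟨g, rfl⟩ := QuotientGroup.mk_surjective g
      exact hq g ⁅s, v⁆ (hz g)) (hq c v hc) (fun g => by
      obtain ⟨g, rfl⟩ := QuotientGroup.mk_surjective g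
      exact hq g d (hd g))
  rw [← QuotientGroup.eq]
  exact h0.symm

theorem K_inv {G : Type*} [Group G] (Φ : MulAut G) {i : ℕ} {x : G} (hx : x ∈ K G i) : Φ x ∈ K G i := by
  rw [← K_map Φ.toMonoidHom Φ.surjective i]
  exact ⟨x, hx, rfl⟩

theorem M_inv {G : Type*} [Group G] (Φ : MulAut G) {i : ℕ} {x : G} (hx : x ∈ M G i) : Φ x ∈ M G i := by
  intro y hy
  have h1 : Φ⁻¹ y ∈ K G i := K_inv Φ⁻¹ hy
  have h2 := K_inv Φ (hx _ h1)
  rw [map_commutatorElement, MulAut.apply_inv_self] at h2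
  exact h2

universe u

section Max

variable {G : Type u} [Group G] {p n : ℕ} [hp : Fact p.Prime]

theorem M_le_sub (h : Max G p n) (hp2 : p ≠ 2) (hn : 5 ≤ n) : M G 2 ≤ M G (n - 3) :=
  (Cfsg.Agent.H72.MC.Max.blackburn hp2 n (by omega) G h).1 (n - 3) (by omega) (by omega)

/-- an abelian subgroup of order `p ^ 3` is contained in `M 2` or in `M (n - 2)` -/
theorem le_M_or (h : Max G p n) (hp2 : p ≠ 2) (hn : 5 ≤ n) {E : Subgroup G} (hE : Nat.card E = p ^ 3)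
    (hab : ∀ a ∈ E, ∀ b ∈ E, a * b = b * a) : E ≤ M G 2 ∨ E ≤ M G (n - 2) := by
  have := h.finite
  have key : ∀ e ∈ E, e ∈ M G 2 ∨ e ∈ M G (n - 2) := by
    intro e he
    by_contra hcon
    push Not at hcon
    have h1 := h.card_centralizer_of_not_mem hp2 (by omega) hcon.1 hcon.2
    have h2 : E ≤ centralizer ({e} : Set G) := fun x hx =>
      mem_centralizer_singleton_iff.2 (hab x hx e he)
    have h3 := (Subgroup.card_le_of_le h2).trans h1
    rw [hE] at h3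
    exact absurd h3 (not_le.2 (Nat.pow_lt_pow_right hp.out.one_lt (by norm_num)))
  by_contra hcon
  push Not at hcon
  obtain ⟨⟨e, he, he1⟩, ⟨f, hf, hf1⟩⟩ := And.intro (SetLike.not_le_iff_exists.1 hcon.1) (SetLike.not_le_iff_exists.1 hcon.2)
  have he2 := (key e he).resolve_left he1
  have hf2 := (key f hf).resolve_right hf1
  rcases key (e * f) (E.mul_mem he hf) with h1 | h1
  · exact he1 ((Subgroup.mul_mem_cancel_right _ hf2).1 h1)
  · exact hf1 ((Subgroup.mul_mem_cancel_left _ he2).1 h1)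

theorem K_comm_sub (h : Max G p n) (hn : 5 ≤ n) : ∀ a ∈ K G (n - 3), ∀ b ∈ K G (n - 3), a * b = b * a := by
  have := h.finite
  obtain ⟨x, hx, hx'⟩ := SetLike.exists_of_lt (h.K_lt (i := n - 3) (by omega) (by omega) (by omega))
  have hcen : ∀ a ∈ K G (n - 3), ∀ b ∈ K G (n - 3 + 1), a * b = b * a := by
    intro a ha b hb
    rw [← commutatorElement_eq_one_iff_mul_comm]
    have h1 := K_comm (G := G) (n - 3) (n - 3 + 1) (Subgroup.commutator_mem_commutator ha hb)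
    rwa [h.K_big (by omega) (by omega), mem_bot] at h1
  have hdec : ∀ a ∈ K G (n - 3), ∃ k : ℕ, (x ^ k)⁻¹ * a ∈ K G (n - 3 + 1) := fun a ha =>
    exists_pow_mul (p := p) (h.relIndex_K (by omega) (by omega) (by omega)) hx hx' ha
  intro a ha b hb
  obtain ⟨i, hi⟩ := hdec a ha
  obtain ⟨j, hj⟩ := hdec b hb
  obtain ⟨u, hu⟩ : ∃ u, u = (x ^ i)⁻¹ * a := ⟨_, rfl⟩
  obtain ⟨v, hv⟩ : ∃ v, v = (x ^ j)⁻¹ * b := ⟨_, rfl⟩
  rw [← hu] at hi
  rw [← hv] at hj
  have ea : a = x ^ i * u := by rw [hu]; group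
  have eb : b = x ^ j * v := by rw [hv]; group
  have c1 : Commute (x ^ i) (x ^ j) := Commute.pow_pow_self x i j
  have c2 : Commute (x ^ i) v := hcen _ (Subgroup.pow_mem _ hx i) _ hj
  have c3 : Commute u (x ^ j) := (hcen _ (Subgroup.pow_mem _ hx j) _ hi).symm
  have c4 : Commute u v := hcen _ (K_anti (by omega) hi) _ hj
  rw [ea, eb]
  exact ((c1.mul_right c2).mul_left (c3.mul_right c4)).eq

theorem K_exp (h : Max G p n) (hp5 : 5 ≤ p) (hn : 5 ≤ n) {x : G} (hx : x ∈ K G (n - 3)) : x ^ p = 1 := by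
  have h1 := h.pow_mem (by omega) (by omega) (k := n - 3) (by omega) hx
  rwa [h.K_big (by omega) (by omega), mem_bot] at h1

theorem modEq_of_pow {x : G} {B : Subgroup G} [B.Normal] (hx : x ∉ B) (hxp : x ^ p ∈ B) {i j : ℕ}
    (hij : (x ^ i)⁻¹ * x ^ j ∈ B) : i ≡ j [MOD p] := by
  have h1 : orderOf (x : G ⧸ B) = p := by
    apply orderOf_eq_prime
    · rw [← QuotientGroup.mk_pow]; exact (QuotientGroup.eq_one_iff _).2 hxp
    · intro h; exact hx ((QuotientGroup.eq_one_iff _).1 h)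
  rw [← h1, ← pow_eq_pow_iff_modEq, ← QuotientGroup.mk_pow, ← QuotientGroup.mk_pow]
  exact QuotientGroup.eq.2 hij

/-- the ordinary case: the eigenvalues on the three lowest factors satisfy `m ^ 3 = 1` -/
theorem ord_case (h : Max G p n) (hp2 : p ≠ 2) (hn : 5 ≤ n) (hM : M G 2 ≤ M G (n - 2)) {Φ : MulAut G} {x : ℕ}
    (h1 : ∀ z ∈ K G (n - 1), Φ z = z ^ x) (h2 : ∀ z ∈ K G (n - 2), Φ z * z⁻¹ ∈ K G (n - 1))
    (h3 : ∀ z ∈ K G (n - 3), (z ^ (x ^ 2))⁻¹ * Φ z ∈ K G (n - 2)) (hexp : ∀ z ∈ K G (n - 3), z ^ p = 1) :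
    ((x : ZMod p)) ^ 3 = 1 := by
  have := h.finite
  obtain ⟨s, hs, -⟩ := exists_not_mem_two (h.M_ne_top (i := 2) (by omega) le_rfl (by omega))
    (h.M_ne_top (i := 2) (by omega) le_rfl (by omega))
  have hs3 : s ∉ M G (n - 3) := by
    rw [← h.M_eq_of_le (by omega) le_rfl (by omega) (by omega) (by omega) (M_le_sub h hp2 hn)]
    exact hs
  have hs2 : s ∉ M G (n - 2) := by
    rw [← h.M_eq_of_le (by omega) le_rfl (by omega) (by omega) (by omega) hM]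
    exact hs
  obtain ⟨a, ha⟩ := exists_pow_mul (p := p) (A := ⊤) (B := M G 2)
    (by rw [relIndex_top_right, h.index_M (by omega) le_rfl (by omega)]) (mem_top s) hs (mem_top (Φ s))
  obtain ⟨c, hc⟩ : ∃ c, c = (s ^ a)⁻¹ * Φ s := ⟨_, rfl⟩
  rw [← hc] at ha
  have hΦs : Φ s = s ^ a * c := by rw [hc]; group
  obtain ⟨v₃, hv₃, hv₃'⟩ := SetLike.exists_of_lt (h.K_lt (i := n - 3) (by omega) (by omega) (by omega))
  obtain ⟨hv₂, hv₂'⟩ := h.comm_depth (by omega) (i := n - 3) (by omega) (by omega) hv₃ hv₃' hs3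
  rw [show n - 3 + 1 = n - 2 by omega] at hv₂ hv₃'
  rw [show n - 3 + 2 = n - 1 by omega] at hv₂'
  obtain ⟨hv₁, hv₁'⟩ := h.comm_depth (by omega) (i := n - 2) (by omega) (by omega) hv₂
    (by rwa [show n - 2 + 1 = n - 1 by omega]) hs2
  rw [show n - 2 + 1 = n - 1 by omega] at hv₁
  rw [show n - 2 + 2 = n by omega] at hv₁'
  -- first step
  have hup : ∀ i, 1 ≤ i → ∀ (g y : G), y ∈ K G i → ⁅g, y⁆ ∈ K G (i + 1) := fun i hi g y hy => comm_top_mem hi hy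
  have e3 : Φ v₃ = v₃ ^ (x ^ 2) * ((v₃ ^ (x ^ 2))⁻¹ * Φ v₃) := by group
  have s1 := step (N := K G (n - 1)) (s := s) (v := v₃) (c := c) (d := (v₃ ^ (x ^ 2))⁻¹ * Φ v₃) (a := a) (m := x ^ 2)
    (fun g => by
      have := hup (n - 2) (by omega) g _ hv₂
      rwa [show n - 2 + 1 = n - 1 by omega] at this)
    (by
      have := M_le_sub h hp2 hn ha v₃ hv₃
      rwa [show n - 3 + 2 = n - 1 by omega] at this)
    (fun g => by
      have := hup (n - 2) (by omega) g _ (h3 v₃ hv₃)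
      rwa [show n - 2 + 1 = n - 1 by omega] at this)
  rw [← e3, ← hΦs, ← map_commutatorElement] at s1
  have hv₂p : ⁅s, v₃⁆ ^ p ∈ K G (n - 1) := by
    rw [hexp _ (K_anti (by omega) hv₂)]; exact one_mem _
  have m1 : a * x ^ 2 ≡ 1 [MOD p] := by
    refine modEq_of_pow hv₂' hv₂p ?_
    have h4 := h2 _ hv₂
    have h5 : (⁅s, v₃⁆ ^ (a * x ^ 2))⁻¹ * ⁅s, v₃⁆ ^ 1 =
        ((⁅s, v₃⁆ ^ (a * x ^ 2))⁻¹ * Φ ⁅s, v₃⁆) * ((Φ ⁅s, v₃⁆)⁻¹ * (Φ ⁅s, v₃⁆ * ⁅s, v₃⁆⁻¹)⁻¹ * Φ ⁅s, v₃⁆) := by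
      rw [pow_one]; group
    rw [h5]
    refine mul_mem s1 ?_
    have h6 := (K_normal (n - 1)).conj_mem _ (inv_mem h4) (Φ ⁅s, v₃⁆)⁻¹
    rwa [inv_inv] at h6
  -- second step
  obtain ⟨v₂, hv₂def⟩ : ∃ v₂, v₂ = ⁅s, v₃⁆ := ⟨_, rfl⟩
  rw [← hv₂def] at hv₁ hv₁' hv₂ hv₂'
  have e2 : Φ v₂ = v₂ ^ 1 * ((v₂ ^ 1)⁻¹ * Φ v₂) := by group
  have hd2 : (v₂ ^ 1)⁻¹ * Φ v₂ ∈ K G (n - 1) := by
    have h4 := (K_normal (n - 1)).conj_mem _ (h2 v₂ hv₂) v₂⁻¹
    rw [pow_one]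
    convert h4 using 1
    group
  have s2 := step (N := K G n) (s := s) (v := v₂) (c := c) (d := (v₂ ^ 1)⁻¹ * Φ v₂) (a := a) (m := 1)
    (fun g => by
      have := hup (n - 1) (by omega) g _ hv₁
      rwa [show n - 1 + 1 = n by omega] at this)
    (by
      have := hM ha v₂ hv₂
      rwa [show n - 2 + 2 = n by omega] at this)
    (fun g => by
      have := hup (n - 1) (by omega) g _ hd2
      rwa [show n - 1 + 1 = n by omega] at this)
  rw [← e2, ← hΦs, ← map_commutatorElement, h1 _ hv₁, mul_one] at s2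
  have m2 : a ≡ x [MOD p] := modEq_of_pow hv₁' (by
    rw [hexp _ (K_anti (by omega) hv₁)]; exact one_mem _) s2
  have m1' := (ZMod.natCast_eq_natCast_iff _ _ _).2 m1
  have m2' := (ZMod.natCast_eq_natCast_iff _ _ _).2 m2
  push_cast at m1' m2'
  rw [m2'] at m1'
  rw [← m1']; ring

/-- the exceptional case: eigenvalues on the three lowest factors -/
theorem exc_case (h : Max G p n) (hp2 : p ≠ 2) (hn : 5 ≤ n) (hM : ¬ M G 2 ≤ M G (n - 2)) (Φ : MulAut G) :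
    ∃ (v₁ v₂ v₃ : G) (a b : ℕ), v₁ ∈ K G (n - 1) ∧ v₁ ≠ 1 ∧ v₂ ∈ K G (n - 2) ∧ v₂ ∉ K G (n - 1) ∧
      v₃ ∈ K G (n - 3) ∧ v₃ ∉ K G (n - 2) ∧ Φ v₁ = v₁ ^ (b * (a ^ (n - 3) * b)) ∧
      (v₂ ^ (a ^ (n - 3) * b))⁻¹ * Φ v₂ ∈ K G (n - 1) ∧ (v₃ ^ (a ^ (n - 4) * b))⁻¹ * Φ v₃ ∈ K G (n - 2) := by
  have := h.finite
  obtain ⟨s, hs1, hs2⟩ := exists_not_mem_two (h.M_ne_top (i := 2) (by omega) le_rfl (by omega))
    (h.M_ne_top (i := n - 2) (by omega) (by omega) (by omega))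
  have hsU := h.unif_of_not_mem hp2 (by omega) hs1 hs2
  obtain ⟨g, hg, hg'⟩ := h.exists_a (by omega)
  obtain ⟨a, ha⟩ := exists_pow_mul (p := p) (A := ⊤) (B := M G 2)
    (by rw [relIndex_top_right, h.index_M (by omega) le_rfl (by omega)]) (mem_top s) hs1 (mem_top (Φ s))
  obtain ⟨c, hc⟩ : ∃ c, c = (s ^ a)⁻¹ * Φ s := ⟨_, rfl⟩
  rw [← hc] at ha
  have hΦs : Φ s = s ^ a * c := by rw [hc]; group
  obtain ⟨b, hb⟩ := exists_pow_mul (p := p) (A := M G 2) (B := K G 2) (h.K_two_relIndex_M (by omega)) hg hg'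
    (M_inv Φ hg)
  have hup : ∀ i, 1 ≤ i → ∀ (g y : G), y ∈ K G i → ⁅g, y⁆ ∈ K G (i + 1) := fun i hi g y hy => comm_top_mem hi hy
  have hnm : ∀ k, k ≤ n - 3 → it s g k ∉ K G (k + 2) := fun k hk =>
    h.it_not_mem (by omega) hg hg' hs1 (by omega) (fun j hj hjk => hsU j hj (by omega))
  have hind : ∀ k, k ≤ n - 3 → ((it s g k) ^ (a ^ k * b))⁻¹ * Φ (it s g k) ∈ K G (k + 2) := by
    intro k
    induction k with
    | zero =>
      intro _
      rw [pow_zero, one_mul]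
      exact hb
    | succ k ih =>
      intro hk
      have hd := ih (by omega)
      obtain ⟨d, hdd⟩ : ∃ d, d = ((it s g k) ^ (a ^ k * b))⁻¹ * Φ (it s g k) := ⟨_, rfl⟩
      rw [← hdd] at hd
      have hΦv : Φ (it s g k) = (it s g k) ^ (a ^ k * b) * d := by rw [hdd]; group
      have s1 := step (N := K G (k + 1 + 2)) (s := s) (v := it s g k) (c := c) (d := d) (a := a) (m := a ^ k * b)
        (fun g' => by
          have h4 : ⁅s, it s g k⁆ ∈ K G (k + 2) := it_mem_K hg (k := k + 1) (by omega)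
          exact hup (k + 2) (by omega) g' _ h4)
        (by
          rcases Nat.eq_zero_or_pos k with rfl | hk0
          · exact h.comm_M_M (by omega) (commutator_mem_commutator ha hg)
          · have h4 : M G 2 ≤ M G (k + 1) := (Cfsg.Agent.H72.MC.Max.blackburn hp2 n (by omega) G h).1 (k + 1) (by omega) (by omega)
            exact h4 ha _ (it_mem_K hg hk0))
        (fun g' => hup (k + 2) (by omega) g' _ hd)
      rw [← hΦv, ← hΦs, ← map_commutatorElement, ← mul_assoc, ← pow_succ'] at s1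
      exact s1
  have hv₂ : it s g (n - 3) ∈ K G (n - 2) := by
    have := it_mem_K (s := s) hg (k := n - 3) (by omega)
    rwa [show n - 3 + 1 = n - 2 by omega] at this
  have hv₂' : it s g (n - 3) ∉ K G (n - 1) := by
    have := hnm (n - 3) le_rfl
    rwa [show n - 3 + 2 = n - 1 by omega] at this
  have hv₃ : it s g (n - 4) ∈ K G (n - 3) := by
    have := it_mem_K (s := s) hg (k := n - 4) (by omega)
    rwa [show n - 4 + 1 = n - 3 by omega] at this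
  have hv₃' : it s g (n - 4) ∉ K G (n - 2) := by
    have := hnm (n - 4) (by omega)
    rwa [show n - 4 + 2 = n - 2 by omega] at this
  have e2 := hind (n - 3) le_rfl
  rw [show n - 3 + 2 = n - 1 by omega] at e2
  have e3 := hind (n - 4) (by omega)
  rw [show n - 4 + 2 = n - 2 by omega] at e3
  have hgM : g ∉ M G (n - 2) := fun hcon => hM (h.M_le_of (by omega) hg hg' (K_two_le_M _) hcon)
  obtain ⟨hv₁, hv₁'⟩ := h.comm_depth (by omega) (i := n - 2) (by omega) (by omega) hv₂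
    (by rwa [show n - 2 + 1 = n - 1 by omega]) hgM
  rw [show n - 2 + 1 = n - 1 by omega] at hv₁
  rw [show n - 2 + 2 = n by omega] at hv₁'
  have hKn : K G n = ⊥ := h.K_n (by omega)
  refine ⟨⁅g, it s g (n - 3)⁆, it s g (n - 3), it s g (n - 4), a, b, hv₁, ?_, hv₂, hv₂', hv₃, hv₃', ?_, e2, e3⟩
  · intro h1
    apply hv₁'
    rw [h1]; exact one_mem _
  · obtain ⟨d, hd⟩ : ∃ d, d = (g ^ b)⁻¹ * Φ g := ⟨_, rfl⟩
    rw [← hd] at hb
    have hΦg : Φ g = g ^ b * d := by rw [hd]; group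
    obtain ⟨d', hd'⟩ : ∃ d', d' = ((it s g (n - 3)) ^ (a ^ (n - 3) * b))⁻¹ * Φ (it s g (n - 3)) := ⟨_, rfl⟩
    rw [← hd'] at e2
    have hΦv : Φ (it s g (n - 3)) = (it s g (n - 3)) ^ (a ^ (n - 3) * b) * d' := by rw [hd']; group
    have s1 := step (N := K G n) (s := g) (v := it s g (n - 3)) (c := d) (d := d') (a := b) (m := a ^ (n - 3) * b)
      (fun g' => by
        have := hup (n - 1) (by omega) g' _ hv₁
        rwa [show n - 1 + 1 = n by omega] at this)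
      (by
        have := K_comm (G := G) 2 (n - 2) (commutator_mem_commutator hb hv₂)
        rwa [show 2 + (n - 2) = n by omega] at this)
      (fun g' => by
        have := hup (n - 1) (by omega) g' _ e2
        rwa [show n - 1 + 1 = n by omega] at this)
    rw [← hΦv, ← hΦg, ← map_commutatorElement, hKn, mem_bot, inv_mul_eq_one] at s1
    exact s1.symm

end Max

end Cfsg.Agent.H80.TV
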