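import Cfsg.Agent.H80.TV5
import Cfsg.Agent.H80.TV6

set_option autoImplicit false

/-! Essential subgroups of order `p ^ 3` in p-groups of maximal class: preparations. -/

namespace Cfsg.Agent.H80.TV

open Cfsg Cfsg.Agent Cfsg.Agent.Fus
open Cfsg.Agent.H72.MC (K M)
open scoped IsMulCommutative commutatorElement

/-- Sylow conjugation in a subgroup, elementwise. -/
theorem sylow_conj {X : Type*} [Group X] [Finite X] {p : ℕ} [hp : Fact p.Prime] {P D Q : Subgroup X} (hPD : P ≤ D)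
    (hP : IsPGroup p P) (hmax : ∀ R ≤ D, IsPGroup p R → P ≤ R → R ≤ P) (hQD : Q ≤ D) (hQ : IsPGroup p Q) :
    ∃ h ∈ D, ∀ k ∈ Q, h * k * h⁻¹ ∈ P := by
  have hP' : IsPGroup p (P.subgroupOf D) := hP.comap_of_injective D.subtype D.subtype_injective
  have hQ' : IsPGroup p (Q.subgroupOf D) := hQ.comap_of_injective D.subtype D.subtype_injective
  obtain ⟨R, hR⟩ := hP'.exists_le_sylow
  obtain ⟨R', hR'⟩ := hQ'.exists_le_sylow
  obtain ⟨⟨h, hhD⟩, hh⟩ := MulAction.exists_smul_eq D R' R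
  have h1 : (R : Subgroup D).map D.subtype ≤ P := by
    refine hmax _ ?_ (R.isPGroup'.map _) ?_
    · rintro _ ⟨x, _, rfl⟩
      exact x.2
    · intro x hx
      exact ⟨⟨x, hPD hx⟩, hR hx, rfl⟩
  refine ⟨h, hhD, fun k hk => ?_⟩
  have h2 : (⟨k, hQD hk⟩ : D) ∈ (R' : Subgroup D) := hR' hk
  have h3 : (⟨h, hhD⟩ : D) * ⟨k, hQD hk⟩ * (⟨h, hhD⟩ : D)⁻¹ ∈ (R : Subgroup D) := by
    rw [← hh]
    exact ⟨⟨k, hQD hk⟩, h2, rfl⟩
  exact h1 ⟨_, h3, rfl⟩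

theorem eq_of_prime_card {G : Type*} [Group G] {p : ℕ} [hp : Fact p.Prime] {A B : Subgroup G} (hA : Nat.card A = p)
    (hB : Nat.card B = p) {c : G} (hcA : c ∈ A) (hcB : c ∈ B) (hc : c ≠ 1) : A = B := by
  have key : ∀ {A B : Subgroup G}, Nat.card A = p → c ∈ A → c ∈ B → A ≤ B := by
    intro A B hA hcA hcB x hx
    obtain ⟨k, hk⟩ := mem_powers_of_prime_card (G := A) hA (g := ⟨c, hcA⟩) (g' := ⟨x, hx⟩)
      (fun h => hc (congrArg Subtype.val h))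
    have h1 : c ^ k = x := congrArg Subtype.val hk
    rw [← h1]
    exact B.pow_mem hcB k
  exact le_antisymm (key hA hcA hcB) (key hB hcB hcA)

theorem exists_not_mem_of_card_lt {G : Type*} [Group G] {A B : Subgroup G} [Finite A] (h : Nat.card A < Nat.card B) :
    ∃ b ∈ B, b ∉ A := by
  by_contra hcon
  push Not at hcon
  exact absurd (Subgroup.card_le_of_le hcon) (not_le.2 h)

variable {Ω : Type*} [Group Ω] {S : Subgroup Ω} {F : FusionSystem S} {p : ℕ} [hp : Fact p.Prime] {E : Subgroup Ω}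

theorem fullyNormalized_of_normal [Finite S] {Y : Subgroup Ω} (hYS : Y ≤ S)
    (hYn : ∀ s ∈ S, ∀ y ∈ Y, s * y * s⁻¹ ∈ Y) : F.IsFullyNormalized Y := by
  have hfY : Finite Y := finite_of_le hYS
  refine ⟨hYS, fun Q _ => ?_⟩
  have h2 : FusionSystem.normalizerIn S Y = S :=
    le_antisymm (normalizerIn_le Y) fun s hs => mem_normalizerIn.2 ⟨hs, mem_normalizer_of_conj (hYn s hs)⟩
  rw [h2]
  exact Subgroup.card_le_of_le (normalizerIn_le Q)

theorem extend_S [Finite S] (hS : IsPGroup p S) (hF : F.IsSaturated p) {Y : Subgroup Ω} (hYS : Y ≤ S)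
    (hYn : ∀ s ∈ S, ∀ y ∈ Y, s * y * s⁻¹ ∈ Y) {θ : MulAut Y} (hθ : θ ∈ F.autGroup Y)
    (hn : ∀ α ∈ autInducedBy S Y, θ * α * θ⁻¹ ∈ autInducedBy S Y) :
    ∃ φ ∈ F.autGroup S, ∀ z ∈ Y, ofAut φ z = ofAut θ z := by
  have hfY : Finite Y := finite_of_le hYS
  have hmap : IsMap F Y (ofAut θ) := isMap_ofAut hYS hθ
  obtain ⟨g, hg, hgθ⟩ := recep_exists_extend_of_le (sat_receptive' hS hF (fullyNormalized_of_normal hYS hYn)) hmap
    (hmap.img_eq fun x hx => ofAut_mem _ hx) hYS (by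
    intro n hnS
    have hnn : n ∈ Subgroup.normalizer (Y : Set Ω) := mem_normalizer_of_conj (hYn n hnS)
    obtain ⟨h, hh, h1⟩ := mem_autInducedBy'.1 (hn _ (conjAut_mem (P := Y) hnS hnn))
    refine ⟨hnS, hnn, h, hh, fun z hz => ?_⟩
    rw [← ofAut_conjAut n hnn hz, ← h1 _ (ofAut_mem _ hz), ofAut_mul _ _ (ofAut_mem _ hz), ofAut_inv_apply _ hz,
      ofAut_mul _ _ hz])
  obtain ⟨φ, hφ, hφg⟩ := hg.exists_aut (hg.img_eq fun x hx => hg.mem hx)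
  exact ⟨φ, hφ, fun z hz => by rw [hφg z (hYS hz), hgθ z hz]⟩

theorem aut_card_le [Finite S] (hS : IsPGroup p S) (hE : F.IsEssential p E) (hEab : ∀ a ∈ E, ∀ b ∈ E, a * b = b * a)
    {Z : Subgroup Ω} (hZ : Nat.card Z = p) (hZE : Z ≤ E) (hZc : ∀ z ∈ Z, ∀ s ∈ S, s * z = z * s) {W : Subgroup Ω}
    (hWS : W ≤ S) (hWE : ∀ w ∈ W, ∀ e ∈ E, w * e * w⁻¹ * e⁻¹ ∈ Z) : Nat.card (autInducedBy W E) ≤ p := by
  have hfE : Finite E := finite_of_le hE.1.1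
  have hle : autInducedBy W E ≤ F.autGroup E := (autInducedBy_mono hWS).trans (autInducedBy_le_autGroup hE.1.1)
  have h1 := (seOut_of_essential hE).card_le_prime (hS.to_le hE.1.1) (fun a b => Subtype.ext (hEab a a.2 b b.2))
    (Z := Z.subgroupOf E) (by rw [Nat.card_congr (Subgroup.subgroupOfEquivOfLe hZE).toEquiv, hZ])
    (T := (autInducedBy W E).subgroupOf (F.autGroup E)) (by
      rintro ⟨t, htA⟩ ht z hz
      obtain ⟨w, hw, hwt⟩ := mem_autInducedBy'.1 (show t ∈ autInducedBy W E from ht)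
      refine Subtype.ext ?_
      show ((t z : E) : Ω) = z
      rw [← ofAut_coe, hwt _ z.2, hZc z hz w (hWS hw), mul_inv_cancel_right]) (by
      rintro ⟨t, htA⟩ ht x
      obtain ⟨w, hw, hwt⟩ := mem_autInducedBy'.1 (show t ∈ autInducedBy W E from ht)
      show ((t x : E) : Ω) * (x : Ω)⁻¹ ∈ Z
      rw [← ofAut_coe, hwt _ x.2]
      exact hWE w hw x x.2)
  rwa [Nat.card_congr (Subgroup.subgroupOfEquivOfLe hle).toEquiv] at h1

/-! ### images of the lower central series -/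

/-- the image in `Ω` of a subgroup of `S` -/
def kq (S : Subgroup Ω) (i : ℕ) : Subgroup Ω := (K S i).map S.subtype

theorem mem_kq {i : ℕ} {x : Ω} : x ∈ kq S i ↔ ∃ hx : x ∈ S, (⟨x, hx⟩ : S) ∈ K S i := by
  constructor
  · rintro ⟨y, hy, rfl⟩
    exact ⟨y.2, hy⟩
  · rintro ⟨hx, h⟩
    exact ⟨_, h, rfl⟩

theorem kq_le (i : ℕ) : kq S i ≤ S := fun _ hx => (mem_kq.1 hx).1

theorem kq_anti {i j : ℕ} (h : i ≤ j) : kq S j ≤ kq S i := by
  intro x hx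
  obtain ⟨hx, h1⟩ := mem_kq.1 hx
  exact mem_kq.2 ⟨hx, H72.MC.K_anti h h1⟩

theorem kq_conj {i : ℕ} : ∀ s ∈ S, ∀ y ∈ kq S i, s * y * s⁻¹ ∈ kq S i := by
  intro s hs y hy
  obtain ⟨hyS, h1⟩ := mem_kq.1 hy
  refine mem_kq.2 ⟨S.mul_mem (S.mul_mem hs hyS) (S.inv_mem hs), ?_⟩
  exact (H72.MC.K_normal (G := S) i).conj_mem _ h1 ⟨s, hs⟩

theorem kq_comm {i : ℕ} (hi : 1 ≤ i) : ∀ s ∈ S, ∀ y ∈ kq S i, s * y * s⁻¹ * y⁻¹ ∈ kq S (i + 1) := by
  intro s hs y hy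
  obtain ⟨hyS, h1⟩ := mem_kq.1 hy
  refine mem_kq.2 ⟨S.mul_mem (S.mul_mem (S.mul_mem hs hyS) (S.inv_mem hs)) (S.inv_mem hyS), ?_⟩
  exact H72.MC.comm_top_mem (G := S) (g := ⟨s, hs⟩) hi h1

theorem card_kq {n : ℕ} (h : H72.MC.Max S p n) (hn : 2 ≤ n) {i : ℕ} (hi : 2 ≤ i) (hin : i ≤ n) :
    Nat.card (kq S i) = p ^ (n - i) := by
  rw [kq, Subgroup.card_map_of_injective S.subtype_injective, h.card_K hn hi hin]

end Cfsg.Agent.H80.TV
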