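import Cfsg.Agent.H80.TV7

set_option autoImplicit false

/-! No elementary abelian essential subgroup of order `p ^ 3` in a saturated fusion system on a `p`-group of
maximal class of order at least `p ^ 5`, `p ≥ 5`. -/

universe u

namespace Cfsg.Agent.H80.TV

open Cfsg Cfsg.Agent Cfsg.Agent.Fus
open Cfsg.Agent.H72.MC (K M)
open scoped IsMulCommutative commutatorElement

variable {Ω : Type u} [Group Ω] {S : Subgroup Ω} {F : FusionSystem S} {p n : ℕ} [hp : Fact p.Prime] {E : Subgroup Ω}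

/-- facts about the bottom of the lower central series -/
structure Bot (S : Subgroup Ω) (p n : ℕ) : Prop where
  cY : Nat.card (kq S (n - 3)) = p ^ 3
  cZ2 : Nat.card (kq S (n - 2)) = p ^ 2
  cZ : Nat.card (kq S (n - 1)) = p
  zc : ∀ z ∈ kq S (n - 1), ∀ s ∈ S, s * z = z * s
  z2 : ∀ s ∈ S, ∀ z ∈ kq S (n - 2), s * z * s⁻¹ * z⁻¹ ∈ kq S (n - 1)
  z3 : ∀ s ∈ S, ∀ z ∈ kq S (n - 3), s * z * s⁻¹ * z⁻¹ ∈ kq S (n - 2)
  yab : ∀ a ∈ kq S (n - 3), ∀ b ∈ kq S (n - 3), a * b = b * a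
  yexp : ∀ a ∈ kq S (n - 3), a ^ p = 1

theorem bot_of_max [Finite S] (hp5 : 5 ≤ p) (h : H72.MC.Max S p n) (hn : 5 ≤ n) : Bot S p n where
  cY := by rw [card_kq h (by omega) (by omega) (by omega)]; congr 1; omega
  cZ2 := by rw [card_kq h (by omega) (by omega) (by omega)]; congr 1; omega
  cZ := by rw [card_kq h (by omega) (by omega) (by omega), show n - (n - 1) = 1 by omega, pow_one]
  zc := by
    intro z hz s hs
    obtain ⟨hzS, h1⟩ := mem_kq.1 hz
    exact congrArg Subtype.val (h.central_of_mem (by omega) h1 ⟨s, hs⟩).eq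
  z2 := by
    intro s hs z hz
    have := kq_comm (i := n - 2) (by omega) s hs z hz
    rwa [show n - 2 + 1 = n - 1 by omega] at this
  z3 := by
    intro s hs z hz
    have := kq_comm (i := n - 3) (by omega) s hs z hz
    rwa [show n - 3 + 1 = n - 2 by omega] at this
  yab := by
    intro a ha b hb
    obtain ⟨haS, h1⟩ := mem_kq.1 ha
    obtain ⟨hbS, h2⟩ := mem_kq.1 hb
    exact congrArg Subtype.val (K_comm_sub h hn _ h1 _ h2)
  yexp := by
    intro a ha
    obtain ⟨haS, h1⟩ := mem_kq.1 ha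
    exact congrArg Subtype.val (K_exp h hp5 hn h1)

theorem inv_comm_mem {Z : Subgroup Ω} {a b : Ω} (h : a * b * a⁻¹ * b⁻¹ ∈ Z) : b * a * b⁻¹ * a⁻¹ ∈ Z := by
  have := Z.inv_mem h
  convert this using 1
  group

/-- `E` is not the third last term. -/
theorem ne_Y [Finite S] (hp5 : 5 ≤ p) (hS : IsPGroup p S) (h : H72.MC.Max S p n) (hn : 5 ≤ n)
    (hE : F.IsEssential p E) (hEab : ∀ a ∈ E, ∀ b ∈ E, a * b = b * a) : E ≠ kq S (n - 3) := by
  intro hEY
  have hpp := hp.out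
  have hb := bot_of_max hp5 h hn
  have hfE : Finite E := finite_of_le hE.1.1
  have hfA := finite_mulAut (P := E)
  have : IsMulCommutative E := ⟨⟨fun a b => Subtype.ext (hEab a a.2 b b.2)⟩⟩
  have hC : ∀ s ∈ S, (∀ e ∈ E, s * e = e * s) → s ∈ E := fun s hs h =>
    centric_self_le hE.1 (mem_centralizerIn.2 ⟨hs, fun x hx => (h x hx).symm⟩)
  have hcS : Nat.card S = p ^ n := h.card
  have hZE : kq S (n - 1) ≤ E := by rw [hEY]; exact kq_anti (by omega)
  set W : Subgroup Ω := (M S (n - 3)).map S.subtype with hW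
  have hWS : W ≤ S := by rintro _ ⟨x, _, rfl⟩; exact x.2
  have hWn : ∀ s ∈ S, ∀ w ∈ W, s * w * s⁻¹ ∈ W := by
    rintro s hs _ ⟨w, hw, rfl⟩
    exact ⟨⟨s, hs⟩ * w * ⟨s, hs⟩⁻¹, (H72.MC.M_normal (G := S) (n - 3)).conj_mem _ hw _, rfl⟩
  have hWE : ∀ w ∈ W, ∀ e ∈ E, w * e * w⁻¹ * e⁻¹ ∈ kq S (n - 1) := by
    rintro _ ⟨w, hw, rfl⟩ e he
    rw [hEY] at he
    obtain ⟨heS, h1⟩ := mem_kq.1 he
    have h2 := hw _ h1
    rw [show n - 3 + 2 = n - 1 by omega] at h2
    exact mem_kq.2 ⟨(⁅w, ⟨e, heS⟩⁆ : S).2, h2⟩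
  have hcW : Nat.card W * p = p ^ n := by
    have h1 := Subgroup.card_mul_index (M S (n - 3))
    rw [h.index_M (by omega) (by omega) (by omega), hcS] at h1
    rw [hW, Subgroup.card_map_of_injective S.subtype_injective, h1]
  obtain ⟨w, hwW, hwE⟩ : ∃ w ∈ W, w ∉ E := by
    by_contra hcon
    push Not at hcon
    have h1 := Subgroup.card_le_of_le hcon
    rw [hEY, hb.cY] at h1
    have h2 : p ^ n ≤ p ^ 3 * p := by rw [← hcW]; exact Nat.mul_le_mul_right _ h1
    rw [← pow_succ] at h2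
    have := (Nat.pow_le_pow_iff_right hpp.one_lt).1 h2
    omega
  have hwn : w ∈ Subgroup.normalizer (E : Set Ω) := mem_normalizer_of_conj fun e he => by
    have h1 := E.mul_mem (hZE (hWE w hwW e he)) he
    rwa [inv_mul_cancel_right] at h1
  obtain ⟨t, ht⟩ : ∃ t : MulAut E, t = conjAut w hwn := ⟨_, rfl⟩
  have hwt : ∀ x ∈ E, ofAut t x = w * x * w⁻¹ := fun x hx => by rw [ht]; exact ofAut_conjAut w hwn hx
  have hwt' : ∀ x : E, ((t x : E) : Ω) = w * x * w⁻¹ := fun x => by rw [← ofAut_coe, hwt _ x.2]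
  have hcn : cn (V := E) t ≤ (kq S (n - 1)).subgroupOf E := by
    rintro _ ⟨x, rfl⟩
    show ((t x : E) : Ω) * (x : Ω)⁻¹ ∈ kq S (n - 1)
    rw [hwt']
    exact hWE w hwW x x.2
  have hcZ : Nat.card ((kq S (n - 1)).subgroupOf E) = p := by
    rw [Nat.card_congr (Subgroup.subgroupOfEquivOfLe hZE).toEquiv, hb.cZ]
  have htv : Tv (V := E) p t := by
    constructor
    · have h1 := Subgroup.card_dvd_of_le hcn
      rw [hcZ] at h1
      rcases (Nat.dvd_prime hpp).1 h1 with h2 | h2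
      · exfalso
        apply hwE
        refine hC w (hWS hwW) fun e he => ?_
        have h3 : cn (V := E) t = ⊥ := Subgroup.card_eq_one.1 h2
        have h4 := mem_cn (V := E) t ⟨e, he⟩
        rw [h3, Subgroup.mem_bot, mul_inv_eq_one] at h4
        have h5 := hwt' ⟨e, he⟩
        rw [h4] at h5
        have h6 : e = w * e * w⁻¹ := h5
        calc w * e = w * e * w⁻¹ * w := by group
          _ = e * w := by rw [← h6]
      · exact h2
    · intro x hx
      have hx' : (x : Ω) ∈ kq S (n - 1) := hcn hx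
      refine Subtype.ext ?_
      rw [hwt', hb.zc _ hx' w (hWS hwW), mul_inv_cancel_right]
  have htW : t ∈ autInducedBy W E := mem_autInducedBy'.2 ⟨w, hwW, hwt⟩
  have hle : autInducedBy W E ≤ Subgroup.zpowers t := by
    have h1 : Subgroup.zpowers t ≤ autInducedBy W E := by rwa [Subgroup.zpowers_le]
    have h2 : Nat.card (Subgroup.zpowers t) = p := by
      rw [Nat.card_zpowers]
      exact orderOf_eq_prime htv.pow_eq_one htv.ne_one
    exact (Subgroup.eq_of_le_of_card_ge h1 (by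
      rw [h2]; exact aut_card_le hS hE hEab hb.cZ hZE hb.zc hWS hWE)).ge
  have h1 := card_normalizer_le hE htv (aut_le_zpowers hS hE hWn hWS htv htW hle)
  have h2 : FusionSystem.normalizerIn S E = S := by
    refine le_antisymm (normalizerIn_le E) fun s hs => mem_normalizerIn.2 ⟨hs, mem_normalizer_of_conj ?_⟩
    rw [hEY]
    exact kq_conj s hs
  rw [h2, hcS, hEY, hb.cY] at h1
  have h3 : p ^ n ≤ p ^ 4 := h1.trans_eq (by ring)
  have := (Nat.pow_le_pow_iff_right hpp.one_lt).1 h3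
  omega

/-- basic position of `E` -/
theorem position [Finite S] (hp5 : 5 ≤ p) (hS : IsPGroup p S) (h : H72.MC.Max S p n) (hn : 5 ≤ n)
    (hE : F.IsEssential p E) (hcE : Nat.card E = p ^ 3) (hEab : ∀ a ∈ E, ∀ b ∈ E, a * b = b * a) :
    (∀ y ∈ kq S (n - 3), ∀ e ∈ E, y * e * y⁻¹ ∈ E) ∧ Nat.card (E ⊓ kq S (n - 3) : Subgroup Ω) = p ^ 2 ∧
      (M S 2 ≤ M S (n - 2) → kq S (n - 2) ≤ E ∧ ∀ y ∈ kq S (n - 3), ∀ e ∈ E, y * e * y⁻¹ * e⁻¹ ∈ kq S (n - 1)) := by
  have hpp := hp.out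
  have hb := bot_of_max hp5 h hn
  have hES := hE.1.1
  have hfE : Finite E := finite_of_le hES
  have hYS : kq S (n - 3) ≤ S := kq_le _
  have hfY : Finite (kq S (n - 3)) := finite_of_le hYS
  have hC : ∀ s ∈ S, (∀ e ∈ E, s * e = e * s) → s ∈ E := fun s hs h =>
    centric_self_le hE.1 (mem_centralizerIn.2 ⟨hs, fun x hx => (h x hx).symm⟩)
  have hZE : kq S (n - 1) ≤ E := fun z hz => hC z (kq_le _ hz) fun e he => (hb.zc z hz e (hES he)).symm
  have hM2 : E.subgroupOf S ≤ M S 2 → ∀ y ∈ kq S (n - 3), ∀ e ∈ E, y * e * y⁻¹ * e⁻¹ ∈ kq S (n - 1) := by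
    intro hle y hy e he
    refine inv_comm_mem ?_
    obtain ⟨hyS, h1⟩ := mem_kq.1 hy
    have h2 : (⟨e, hES he⟩ : S) ∈ M S 2 := hle he
    have h3 := M_le_sub h (by omega) hn h2 _ h1
    rw [show n - 3 + 2 = n - 1 by omega] at h3
    exact mem_kq.2 ⟨(⁅(⟨e, hES he⟩ : S), ⟨y, hyS⟩⁆ : S).2, h3⟩
  have hMn : E.subgroupOf S ≤ M S (n - 2) → kq S (n - 2) ≤ E := by
    intro hle z hz
    obtain ⟨hzS, h1⟩ := mem_kq.1 hz
    refine hC z hzS fun e he => ?_
    have h2 : (⟨e, hES he⟩ : S) ∈ M S (n - 2) := hle he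
    have h3 := (h.mem_M_last (by omega)).1 h2
    have h4 := (Subgroup.mem_centralizer_iff.1 h3) _ h1
    exact congrArg Subtype.val h4
  have hcE' : Nat.card (E.subgroupOf S) = p ^ 3 := by
    rw [Nat.card_congr (Subgroup.subgroupOfEquivOfLe hES).toEquiv, hcE]
  have hor := le_M_or h (by omega) hn hcE' (fun a ha b hb => Subtype.ext (hEab a ha b hb))
  have hYE : ∀ y ∈ kq S (n - 3), ∀ e ∈ E, y * e * y⁻¹ ∈ E := by
    intro y hy e he
    have h1 : y * e * y⁻¹ * e⁻¹ ∈ E := by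
      rcases hor with h2 | h2
      · exact hZE (hM2 h2 y hy e he)
      · exact hMn h2 (inv_comm_mem (hb.z3 e (hES he) y hy))
    have h2 := E.mul_mem h1 he
    rwa [inv_mul_cancel_right] at h2
  refine ⟨hYE, ?_, ?_⟩
  · have hge : p ^ 2 ≤ Nat.card (E ⊓ kq S (n - 3) : Subgroup Ω) := by
      rcases hor with h2 | h2
      · have h3 := aut_card_le hS hE hEab hb.cZ hZE hb.zc hYS (hM2 h2)
        have h4 := card_induced (S := kq S (n - 3)) (R := E) (N := kq S (n - 3))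
          (fun y hy => mem_normalizerIn.2 ⟨hy, mem_normalizer_of_conj (hYE y hy)⟩) (centralizerIn_le E)
        have h5 : FusionSystem.centralizerIn (kq S (n - 3)) E ≤ E ⊓ kq S (n - 3) := by
          intro z hz
          obtain ⟨hz1, hz2⟩ := mem_centralizerIn.1 hz
          exact ⟨hC z (hYS hz1) fun e he => (hz2 e he).symm, hz1⟩
        have hfI : Finite (E ⊓ kq S (n - 3) : Subgroup Ω) := finite_of_le (inf_le_left.trans hES)
        have h6 := Subgroup.card_le_of_le h5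
        rw [hb.cY] at h4
        have h7 : p * p ^ 2 ≤ p * Nat.card (E ⊓ kq S (n - 3) : Subgroup Ω) := by
          calc p * p ^ 2 = p ^ 3 := by ring
            _ = _ := h4
            _ ≤ _ := Nat.mul_le_mul h3 h6
        exact Nat.le_of_mul_le_mul_left h7 hpp.pos
      · have hfI : Finite (E ⊓ kq S (n - 3) : Subgroup Ω) := finite_of_le (inf_le_left.trans hES)
        rw [← hb.cZ2]
        exact Subgroup.card_le_of_le (le_inf (hMn h2) (kq_anti (by omega)))
    have hdvd : Nat.card (E ⊓ kq S (n - 3) : Subgroup Ω) ∣ p ^ 3 := by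
      rw [← hcE]; exact Subgroup.card_dvd_of_le inf_le_left
    obtain ⟨k, hk, hk'⟩ := (Nat.dvd_prime_pow hpp).1 hdvd
    rw [hk'] at hge ⊢
    have h2 : 2 ≤ k := (Nat.pow_le_pow_iff_right hpp.one_lt).1 hge
    have h3 : k ≠ 3 := by
      rintro rfl
      have h4 : E ⊓ kq S (n - 3) = E := Subgroup.eq_of_le_of_card_ge inf_le_left (by rw [hk', hcE])
      have h5 : E ⊓ kq S (n - 3) = kq S (n - 3) := Subgroup.eq_of_le_of_card_ge inf_le_right (by rw [hk', hb.cY])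
      exact ne_Y hp5 hS h hn hE hEab (h4.symm.trans h5)
    have : k = 2 := by omega
    rw [this]
  · intro hM
    have hMM : M S 2 = M S (n - 2) := h.M_eq_of_le (by omega) le_rfl (by omega) (by omega) (by omega) hM
    have h1 : E.subgroupOf S ≤ M S 2 := by
      rcases hor with h2 | h2
      · exact h2
      · rw [hMM]; exact h2
    exact ⟨hMn (hMM ▸ h1), hM2 h1⟩

theorem exists_nonsquare (hp2 : p ≠ 2) : ∃ x y : ℕ, x * y ≡ 1 [MOD p] ∧ ¬ IsSquare (x : ZMod p) := by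
  obtain ⟨a, ha⟩ := FiniteField.exists_nonsquare (F := ZMod p) (by rwa [ZMod.ringChar_zmod_n])
  have ha0 : a ≠ 0 := by
    rintro rfl
    exact ha ⟨0, by ring⟩
  refine ⟨a.val, (a⁻¹).val, ?_, ?_⟩
  · rw [← ZMod.natCast_eq_natCast_iff]
    push_cast
    rw [ZMod.natCast_zmod_val, ZMod.natCast_zmod_val, mul_inv_cancel₀ ha0]
  · rwa [ZMod.natCast_zmod_val]

theorem not_sq_cube {a : ZMod p} (ha : ¬ IsSquare a) : ¬ IsSquare (a ^ 3) := by
  rintro ⟨r, hr⟩
  have ha0 : a ≠ 0 := by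
    rintro rfl
    exact ha ⟨0, by ring⟩
  apply ha
  refine ⟨r * a⁻¹, ?_⟩
  have h1 : r * a⁻¹ * (r * a⁻¹) = r * r * (a⁻¹ * a⁻¹) := by ring
  rw [h1, ← hr]
  field_simp

theorem no_ess [Finite S] (hp5 : 5 ≤ p) (hS : IsPGroup p S) (h : H72.MC.Max S p n) (hn : 5 ≤ n)
    (hF : F.IsSaturated p) (hE : F.IsEssential p E) (hcE : Nat.card E = p ^ 3)
    (hEab : ∀ a ∈ E, ∀ b ∈ E, a * b = b * a) : False := by
  have hpp := hp.out
  have hp2 : p ≠ 2 := by omega
  have hb := bot_of_max hp5 h hn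
  have hES := hE.1.1
  have hfE : Finite E := finite_of_le hES
  have hcomE : IsMulCommutative E := ⟨⟨fun a b => Subtype.ext (hEab a a.2 b b.2)⟩⟩
  obtain ⟨hYE, hI, hord⟩ := position hp5 hS h hn hE hcE hEab
  set Y := kq S (n - 3) with hYdef
  have hYS : Y ≤ S := kq_le _
  have hfY : Finite Y := finite_of_le hYS
  have hfAY := finite_mulAut (P := Y)
  have hYn : ∀ s ∈ S, ∀ y ∈ Y, s * y * s⁻¹ ∈ Y := kq_conj
  have hcomY : IsMulCommutative Y := ⟨⟨fun a b => Subtype.ext (hb.yab a a.2 b b.2)⟩⟩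
  have hcS : p ^ 5 ≤ Nat.card S := by
    rw [h.card]; exact Nat.pow_le_pow_right hpp.pos hn
  obtain ⟨C, hCI, hcC, hCc, hθ⟩ := core hS hF hE hcE hcS hYS hYn hb.cY hb.yab hYE hI
  obtain ⟨x, y, hxy, hx⟩ := exists_nonsquare (p := p) hp2
  obtain ⟨θ, hθA, hθ1, hθ2, hθ3⟩ := hθ x y hxy
  have hZ2Y : kq S (n - 2) ≤ Y := kq_anti (by omega)
  have hZZ2 : kq S (n - 1) ≤ kq S (n - 2) := kq_anti (by omega)
  have hfa := sat_fullyAutomized hS hF (fullyNormalized_of_normal (F := F) hYS hYn)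
  by_cases hM : M S 2 ≤ M S (n - 2)
  · -- ordinary case
    obtain ⟨hZ2E, hcomm⟩ := hord hM
    have hIZ : kq S (n - 2) = E ⊓ Y := by
      have hfI : Finite (E ⊓ Y : Subgroup Ω) := finite_of_le (inf_le_left.trans hES)
      exact Subgroup.eq_of_le_of_card_ge (le_inf hZ2E hZ2Y) (by rw [hI, hb.cZ2])
    have hCZ : C = kq S (n - 1) := by
      obtain ⟨w, hwY, hwE⟩ : ∃ w ∈ Y, w ∉ E := by
        by_contra hcon
        push Not at hcon
        have h1 : E ⊓ Y = Y := inf_eq_right.2 hcon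
        rw [h1, hb.cY] at hI
        exact absurd (Nat.pow_right_injective hpp.two_le hI) (by norm_num)
      obtain ⟨e, he, hwe⟩ : ∃ e ∈ E, w * e ≠ e * w := by
        by_contra hcon
        push Not at hcon
        exact hwE (centric_self_le hE.1 (mem_centralizerIn.2 ⟨hYS hwY, fun x hx => (hcon x hx).symm⟩))
      refine eq_of_prime_card hcC hb.cZ (hCc w hwY e he) (hcomm w hwY e he) fun h1 => hwe ?_
      rw [mul_inv_eq_one, mul_inv_eq_iff_eq_mul] at h1
      exact h1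
    rw [hCZ] at hθ1 hθ2
    rw [← hIZ] at hθ2 hθ3
    -- `θ` normalizes the Sylow subgroup
    have hθZ2 : ∀ z ∈ kq S (n - 2), ofAut θ z ∈ kq S (n - 2) := fun z hz => by
      have h1 := (kq S (n - 2)).mul_mem (hZZ2 (hθ2 z hz)) hz
      rwa [inv_mul_cancel_right] at h1
    have hθZ : ∀ z ∈ kq S (n - 1), ofAut θ z ∈ kq S (n - 1) := fun z hz => by
      rw [hθ1 z hz]; exact Subgroup.pow_mem _ hz x
    set c : ℕ → Subgroup Y := fun i => match i with
      | 0 => ⊥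
      | 1 => (kq S (n - 1)).subgroupOf Y
      | 2 => (kq S (n - 2)).subgroupOf Y
      | _ => ⊤ with hc
    have hmono : Monotone c := by
      refine monotone_nat_of_le_succ fun m => ?_
      rcases m with _ | _ | _ | m
      · exact bot_le
      · exact fun y hy => hZZ2 hy
      · exact le_top
      · exact le_rfl
    have hθc : ∀ i, ∀ y ∈ c i, θ y ∈ c i := by
      intro i y hy
      rcases i with _ | _ | _ | i
      · have hy' : y = 1 := hy
        rw [hy', map_one]; exact Subgroup.one_mem _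
      · show ((θ y : Y) : Ω) ∈ kq S (n - 1)
        rw [← ofAut_coe]
        exact hθZ _ hy
      · show ((θ y : Y) : Ω) ∈ kq S (n - 2)
        rw [← ofAut_coe]
        exact hθZ2 _ hy
      · exact Subgroup.mem_top _
    have hθc' : ∀ i, ∀ y ∈ c i, θ⁻¹ y ∈ c i := by
      intro i y hy
      have h1 : (c i).map θ.toMonoidHom = c i := by
        apply Subgroup.eq_of_le_of_card_ge
        · rintro _ ⟨z, hz, rfl⟩
          exact hθc i z hz
        · rw [Subgroup.card_map_of_injective θ.injective]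
      rw [← h1] at hy
      obtain ⟨z, hz, hzy⟩ := hy
      have h2 : θ⁻¹ y = z := by
        rw [← hzy]
        exact MulAut.inv_apply_self _ θ z
      rw [h2]; exact hz
    set R := FusSE.chainStab 3 c rfl hmono ⊓ F.autGroup Y with hR
    have hRp : IsPGroup p R := (FusSE.isPGroup_chainStab (hS.to_le hYS) 3 c rfl rfl hmono).to_le inf_le_left
    have hPR : autInducedBy S Y ≤ R := by
      intro α hα
      refine ⟨?_, autInducedBy_le_autGroup hYS hα⟩
      obtain ⟨s, hs, hsα⟩ := mem_autInducedBy'.1 hα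
      have hv : ∀ z : Y, ((α z : Y) : Ω) = s * z * s⁻¹ := fun z => by rw [← ofAut_coe, hsα _ z.2]
      intro i hi z hz
      interval_cases i
      · have hz' : (z : Ω) ∈ kq S (n - 1) := hz
        show α z * z⁻¹ ∈ (⊥ : Subgroup Y)
        rw [Subgroup.mem_bot, mul_inv_eq_one]
        refine Subtype.ext ?_
        rw [hv, hb.zc _ hz' s hs, mul_inv_cancel_right]
      · have hz' : (z : Ω) ∈ kq S (n - 2) := hz
        show ((α z : Y) : Ω) * (z : Ω)⁻¹ ∈ kq S (n - 1)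
        rw [hv]
        exact hb.z2 s hs _ hz'
      · show ((α z : Y) : Ω) * (z : Ω)⁻¹ ∈ kq S (n - 2)
        rw [hv]
        exact hb.z3 s hs _ z.2
    have hRP := Fus.IsFullyAutomized.le_of_isPGroup hfa inf_le_right hRp hPR
    obtain ⟨φ, hφ, hφθ⟩ := extend_S hS hF hYS hYn hθA (by
      intro α hα
      refine hRP ⟨?_, (F.autGroup Y).mul_mem ((F.autGroup Y).mul_mem hθA (autInducedBy_le_autGroup hYS hα))
        ((F.autGroup Y).inv_mem hθA)⟩
      intro i hi z hz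
      have h1 := (hPR hα).1 i hi _ (hθc' (i + 1) z hz)
      have h2 := hθc i _ h1
      have h3 : θ (α (θ⁻¹ z) * (θ⁻¹ z)⁻¹) = (θ * α * θ⁻¹) z * z⁻¹ := by
        rw [map_mul, map_inv, MulAut.apply_inv_self]; rfl
      rwa [h3] at h2)
    have hval : ∀ z : S, (z : Ω) ∈ Y → ((φ z : S) : Ω) = ofAut θ (z : Ω) := fun z hz => by
      rw [← hφθ _ hz, ← ofAut_coe]
    have hkY : ∀ (i : ℕ) (z : S), z ∈ K S i → (z : Ω) ∈ kq S i := fun i z hz => ⟨z, hz, rfl⟩
    have h3 := ord_case h hp2 hn hM (Φ := φ) (x := x)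
      (by
        intro z hz
        have hz' := hkY _ z hz
        refine Subtype.ext ?_
        rw [hval z (hZ2Y (hZZ2 hz')), hθ1 _ hz']
        rfl)
      (by
        intro z hz
        have hz' := hkY _ z hz
        have h4 := hθ2 _ hz'
        rw [← hval z (hZ2Y hz')] at h4
        exact (mem_kq.1 h4).2)
      (by
        intro z hz
        have hz' := hkY _ z hz
        have h4 := hθ3 _ hz'
        rw [← hval z hz'] at h4
        exact (mem_kq.1 h4).2)
      (fun z hz => Subtype.ext (hb.yexp _ (hkY _ z hz)))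
    apply not_sq_cube hx
    rw [h3]
    exact ⟨1, by ring⟩
  · -- exceptional case
    have heven : ¬ Odd n := fun hodd => hM (h.parity hn hodd (H72.MC.Max.blackburn hp2 n (by omega) S h).1)
    rw [Nat.not_odd_iff_even] at heven
    obtain ⟨r, hr⟩ := heven
    have hexp : ∀ y : Y, y ^ p = 1 := fun y => Subtype.ext (hb.yexp _ y.2)
    set D : Subgroup (MulAut Y) := sl (V := Y) hexp ⊓ F.autGroup Y with hD
    have hpel : ∀ Q : Subgroup (MulAut Y), Q ≤ F.autGroup Y → IsPGroup p Q → Q ≤ D := by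
      intro Q hQA hQ α hα
      obtain ⟨m, hm⟩ := hQ ⟨α, hα⟩
      exact ⟨mem_sl_of_pow (V := Y) (m := m) (congrArg Subtype.val hm), hQA hα⟩
    have hPA : autInducedBy S Y ≤ F.autGroup Y := autInducedBy_le_autGroup hYS
    have hPp := isPGroup_autInducedBy hS Y
    have hQmap : ∀ k ∈ (autInducedBy S Y).map (MulAut.conj θ).toMonoidHom, k ∈ F.autGroup Y := by
      rintro _ ⟨α, hα, rfl⟩
      exact (F.autGroup Y).mul_mem ((F.autGroup Y).mul_mem hθA (hPA hα)) ((F.autGroup Y).inv_mem hθA)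
    obtain ⟨η, hη, hηP⟩ := sylow_conj (P := autInducedBy S Y) (D := D)
      (Q := (autInducedBy S Y).map (MulAut.conj θ).toMonoidHom) (hpel _ hPA hPp) hPp
      (fun R hRD hR hPR => Fus.IsFullyAutomized.le_of_isPGroup hfa (hRD.trans inf_le_right) hR hPR)
      (hpel _ hQmap (hPp.map _)) (hPp.map _)
    have hαA : η * θ ∈ F.autGroup Y := (F.autGroup Y).mul_mem hη.2 hθA
    obtain ⟨φ, hφ, hφα⟩ := extend_S hS hF hYS hYn hαA (by
      intro α hα
      have h1 := hηP _ ⟨α, hα, rfl⟩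
      convert h1 using 1
      show η * θ * α * (η * θ)⁻¹ = η * (θ * α * θ⁻¹) * η⁻¹
      group)
    obtain ⟨v₁, v₂, v₃, a, b, hv₁, hv₁', hv₂, hv₂', hv₃, hv₃', e1, e2, e3⟩ := exc_case h hp2 hn hM φ
    have hkY : ∀ (i : ℕ) (z : S), z ∈ K S i → (z : Ω) ∈ kq S i := fun i z hz => ⟨z, hz, rfl⟩
    have hkY' : ∀ (i : ℕ) (z : S), (z : Ω) ∈ kq S i → z ∈ K S i := fun i z hz => (mem_kq.1 hz).2
    have hval : ∀ z : S, (hz : (z : Ω) ∈ Y) → (((η * θ) ⟨z, hz⟩ : Y) : Ω) = ((φ z : S) : Ω) := fun z hz => by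
      rw [← ofAut_coe φ z, hφα _ hz, ofAut_apply _ hz]
    have hw₁ : (v₁ : Ω) ∈ Y := hZ2Y (hZZ2 (hkY _ _ hv₁))
    have hw₂ : (v₂ : Ω) ∈ Y := hZ2Y (hkY _ _ hv₂)
    have hw₃ : (v₃ : Ω) ∈ Y := hkY _ _ hv₃
    have hcsub : ∀ {A : Subgroup Ω}, A ≤ Y → Nat.card (A.subgroupOf Y) = Nat.card A := fun hA =>
      Nat.card_congr (Subgroup.subgroupOfEquivOfLe hA).toEquiv
    have d1 : dt (V := Y) hexp (η * θ) = (b * (a ^ (n - 3) * b) : ℕ) * (a ^ (n - 3) * b : ℕ) * (a ^ (n - 4) * b : ℕ) :=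
      dt_flag (V := Y) hexp hb.cY (V₁ := (kq S (n - 1)).subgroupOf Y) (V₂ := (kq S (n - 2)).subgroupOf Y)
        (fun y hy => hZZ2 hy) (by rw [hcsub (hZZ2.trans hZ2Y), hb.cZ]) (by rw [hcsub hZ2Y, hb.cZ2])
        (v₁ := ⟨v₁, hw₁⟩) (v₂ := ⟨v₂, hw₂⟩) (v₃ := ⟨v₃, hw₃⟩) (hkY _ _ hv₁)
        (fun h1 => hv₁' (Subtype.ext (show (v₁ : Ω) = 1 from congrArg (fun z : Y => (z : Ω)) h1))) (hkY _ _ hv₂) (fun h1 => hv₂' (hkY' _ _ h1))
        (fun h1 => hv₃' (hkY' _ _ h1))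
        (Subtype.ext (by rw [hval, e1]; rfl))
        (by
          have h1 := hkY _ _ e2
          show (((v₂ : Ω)) ^ (a ^ (n - 3) * b))⁻¹ * (((η * θ) ⟨v₂, hw₂⟩ : Y) : Ω) ∈ kq S (n - 1)
          rw [hval]; exact h1)
        (by
          have h1 := hkY _ _ e3
          show (((v₃ : Ω)) ^ (a ^ (n - 4) * b))⁻¹ * (((η * θ) ⟨v₃, hw₃⟩ : Y) : Ω) ∈ kq S (n - 2)
          rw [hval]; exact h1)
    -- determinant of `θ`
    have hIY : E ⊓ Y ≤ Y := inf_le_right
    have hfI : Finite (E ⊓ Y : Subgroup Ω) := finite_of_le (inf_le_left.trans hES)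
    have hfC : Finite C := finite_of_le ((hCI.trans inf_le_left).trans hES)
    obtain ⟨u₁, hu₁, hu₁'⟩ := exists_not_mem_of_card_lt (A := (⊥ : Subgroup Ω)) (B := C)
      (by rw [Subgroup.card_bot, hcC]; exact hpp.one_lt)
    obtain ⟨u₂, hu₂, hu₂'⟩ := exists_not_mem_of_card_lt (A := C) (B := E ⊓ Y)
      (by rw [hcC, hI]; nlinarith [hpp.one_lt])
    obtain ⟨u₃, hu₃, hu₃'⟩ := exists_not_mem_of_card_lt (A := E ⊓ Y) (B := Y)
      (by rw [hI, hb.cY]; exact Nat.pow_lt_pow_right hpp.one_lt (by norm_num))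
    have d2 : dt (V := Y) hexp θ = (x : ℕ) * (1 : ℕ) * (x ^ 2 : ℕ) :=
      dt_flag (V := Y) hexp hb.cY (V₁ := C.subgroupOf Y) (V₂ := (E ⊓ Y).subgroupOf Y)
        (fun y hy => hCI hy) (by rw [hcsub (hCI.trans hIY), hcC]) (by rw [hcsub hIY, hI])
        (v₁ := ⟨u₁, (hCI hu₁).2⟩) (v₂ := ⟨u₂, hu₂.2⟩) (v₃ := ⟨u₃, hu₃⟩) hu₁
        (fun h1 => hu₁' (Subgroup.mem_bot.2 (congrArg Subtype.val h1))) hu₂ (fun h1 => hu₂' h1)
        (fun h1 => hu₃' h1)
        (Subtype.ext (by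
          rw [← ofAut_apply θ (hCI hu₁).2, hθ1 _ hu₁]; rfl))
        (by
          have h1 := hθ2 _ hu₂
          show ((u₂ ^ 1)⁻¹ * ((θ ⟨u₂, hu₂.2⟩ : Y) : Ω)) ∈ C
          rw [← ofAut_apply θ hu₂.2, pow_one, hb.yab _ (Y.inv_mem hu₂.2) _ (ofAut_mem _ hu₂.2)]
          exact h1)
        (by
          show ((u₃ ^ (x ^ 2))⁻¹ * ((θ ⟨u₃, hu₃⟩ : Y) : Ω)) ∈ E ⊓ Y
          rw [← ofAut_apply θ hu₃]
          exact hθ3 _ hu₃)
    have d3 : dt (V := Y) hexp (η * θ) = dt (V := Y) hexp θ := by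
      rw [dt_mul, show dt (V := Y) hexp η = 1 from hη.1, one_mul]
    rw [d1, d2] at d3
    apply not_sq_cube hx
    have h4 : (x : ZMod p) ^ 3 = (x : ℕ) * (1 : ℕ) * (x ^ 2 : ℕ) := by push_cast; ring
    rw [h4, ← d3]
    refine ⟨(a : ZMod p) ^ (3 * r - 5) * (b : ZMod p) ^ 2, ?_⟩
    push_cast
    have h5 : (a : ZMod p) ^ (n - 3) = a ^ (r - 2) * a ^ (r - 1) := by rw [← pow_add]; congr 1; omega
    have h6 : (a : ZMod p) ^ (n - 4) = a ^ (r - 2) * a ^ (r - 2) := by rw [← pow_add]; congr 1; omega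
    have h7 : (a : ZMod p) ^ (3 * r - 5) = a ^ (r - 2) * a ^ (r - 2) * a ^ (r - 1) := by
      rw [← pow_add, ← pow_add]; congr 1; omega
    rw [h5, h6, h7]
    ring

end Cfsg.Agent.H80.TV
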