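import Cfsg.Agent.H80.TitsDef

set_option autoImplicit false
set_option maxRecDepth 100000

/-!
Matrices of degree 52 over the field with two elements as natural numbers.
-/

namespace Cfsg.Agent.H80.Tits

open Cfsg.Lie Cfsg.Agent.Chev Cfsg.Agent.ChevGrp Cfsg.Agent.ChevGrp.DData Cfsg.Agent.ChevWeyl Cfsg.Agent.ChevTw
  Cfsg.Agent.Tw3 Cfsg.Agent.ChevGrp.RGrp Cfsg.Agent.Tw4 Cfsg.Agent.Uni36

/-- the mask -/
def mk : ℕ → ℕ
  | 0 => 0
  | N + 1 => 2 ^ 52 * mk N + 1

theorem testBit_mk (N : ℕ) : ∀ (m r : ℕ), r < 2 ^ 52 → ∀ i < N, ∀ j < 52,
    ((m &&& mk N) * r).testBit (52 * i + j) = (m.testBit (52 * i) && r.testBit j) := by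
  induction N with
  | zero => intro m r _ i hi; omega
  | succ N ih =>
    intro m r hr i hi j hj
    have h1 : m &&& mk (N + 1) = 2 ^ 52 * ((m >>> 52) &&& mk N) + m % 2 := by
      apply Nat.eq_of_testBit_eq
      intro p
      have h2 : m % 2 < 2 ^ 52 := by have := Nat.mod_lt m (by norm_num : 0 < 2); omega
      have h3 : (1 : ℕ) < 2 ^ 52 := by norm_num
      have hm : mk (N + 1) = 2 ^ 52 * mk N + 1 := rfl
      rw [hm, Nat.testBit_and, Nat.testBit_two_pow_mul_add _ h3, Nat.testBit_two_pow_mul_add _ h2]
      by_cases hp : p < 52
      · rw [if_pos hp, if_pos hp]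
        by_cases h0 : p = 0
        · subst h0
          simp [Nat.testBit_zero]
        · have e1 : (1 : ℕ).testBit p = false := by
            apply Nat.testBit_eq_false_of_lt
            calc 1 < 2 ^ 1 := by norm_num
              _ ≤ 2 ^ p := Nat.pow_le_pow_right (by norm_num) (by omega)
          have e2 : (m % 2).testBit p = false := by
            apply Nat.testBit_eq_false_of_lt
            have := Nat.mod_lt m (by norm_num : 0 < 2)
            calc m % 2 < 2 := this
              _ = 2 ^ 1 := by norm_num
              _ ≤ 2 ^ p := Nat.pow_le_pow_right (by norm_num) (by omega)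
          rw [e1, e2, Bool.and_false]
      · rw [if_neg hp, if_neg hp, Nat.testBit_and, Nat.testBit_shiftRight]
        congr 2
        omega
    rw [h1, Nat.add_mul, Nat.mul_assoc]
    have h2 : m % 2 * r < 2 ^ 52 := by
      rcases Nat.mod_two_eq_zero_or_one m with h | h
      · rw [h, Nat.zero_mul]; norm_num
      · rw [h, Nat.one_mul]; exact hr
    rw [Nat.testBit_two_pow_mul_add _ h2]
    rcases Nat.eq_zero_or_pos i with h0 | h0
    · subst h0
      rw [if_pos (by omega)]
      rcases Nat.mod_two_eq_zero_or_one m with h | h
      · have e1 : m.testBit 0 = false := by rw [Nat.testBit_zero]; simp [h]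
        simp [h, e1]
      · have e1 : m.testBit 0 = true := by rw [Nat.testBit_zero]; simp [h]
        simp [h, e1]
    · rw [if_neg (by omega)]
      obtain ⟨i, rfl⟩ : ∃ i', i = i' + 1 := ⟨i - 1, by omega⟩
      have h4 := ih (m >>> 52) r hr i (by omega) j hj
      rw [show 52 * (i + 1) + j - 52 = 52 * i + j by omega, h4, Nat.testBit_shiftRight]
      congr 2
      omega

/-- the loop of the multiplication -/
def mulAux (a b k : ℕ) : ℕ → ℕ :=
  Nat.rec (motive := fun _ => ℕ → ℕ) (fun acc => acc)
    (fun k ih acc => ih (Nat.xor acc (Nat.mul (Nat.land (Nat.shiftRight a k) 0x1000000000000100000000000010000000000001000000000000100000000000010000000000001000000000000100000000000010000000000001000000000000100000000000010000000000001000000000000100000000000010000000000001000000000000100000000000010000000000001000000000000100000000000010000000000001000000000000100000000000010000000000001000000000000100000000000010000000000001000000000000100000000000010000000000001000000000000100000000000010000000000001000000000000100000000000010000000000001000000000000100000000000010000000000001000000000000100000000000010000000000001000000000000100000000000010000000000001000000000000100000000000010000000000001000000000000100000000000010000000000001)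 (Nat.land (Nat.shiftRight b (Nat.mul 52 k)) 4503599627370495)))) k

/-- multiplication of matrices -/
def mulN (a b : ℕ) : ℕ := mulAux a b 52 0

theorem mk52 : 0x1000000000000100000000000010000000000001000000000000100000000000010000000000001000000000000100000000000010000000000001000000000000100000000000010000000000001000000000000100000000000010000000000001000000000000100000000000010000000000001000000000000100000000000010000000000001000000000000100000000000010000000000001000000000000100000000000010000000000001000000000000100000000000010000000000001000000000000100000000000010000000000001000000000000100000000000010000000000001000000000000100000000000010000000000001000000000000100000000000010000000000001000000000000100000000000010000000000001000000000000100000000000010000000000001000000000000100000000000010000000000001 = mk 52 := by decide +kernel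

/-- a bit as an element of the field -/
def bt (b : Bool) : ZMod 2 := if b then 1 else 0

theorem bt_xor (a b : Bool) : bt (a ^^ b) = bt a + bt b := by
  cases a <;> cases b <;> decide

theorem bt_and (a b : Bool) : bt (a && b) = bt a * bt b := by
  cases a <;> cases b <;> decide

theorem mulAux_bit (a b : ℕ) {i j : ℕ} (hi : i < 52) (hj : j < 52) (k : ℕ) : ∀ acc,
    bt ((mulAux a b k acc).testBit (52 * i + j)) = bt (acc.testBit (52 * i + j)) +
      ∑ t ∈ Finset.range k, bt (a.testBit (52 * i + t)) * bt (b.testBit (52 * t + j)) := by
  induction k with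
  | zero => intro acc; rw [Finset.sum_range_zero, add_zero]; rfl
  | succ k ih =>
    intro acc
    have h1 : mulAux a b (k + 1) acc = mulAux a b k (acc ^^^ (((a >>> k) &&& 0x1000000000000100000000000010000000000001000000000000100000000000010000000000001000000000000100000000000010000000000001000000000000100000000000010000000000001000000000000100000000000010000000000001000000000000100000000000010000000000001000000000000100000000000010000000000001000000000000100000000000010000000000001000000000000100000000000010000000000001000000000000100000000000010000000000001000000000000100000000000010000000000001000000000000100000000000010000000000001000000000000100000000000010000000000001000000000000100000000000010000000000001000000000000100000000000010000000000001000000000000100000000000010000000000001000000000000100000000000010000000000001) * ((b >>> (52 * k)) &&& 4503599627370495))) := rfl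
    have h2 : (b >>> (52 * k)) &&& 4503599627370495 < 2 ^ 52 :=
      lt_of_le_of_lt Nat.and_le_right (by norm_num)
    rw [h1, ih, mk52, Nat.testBit_xor, bt_xor, testBit_mk 52 _ _ h2 i hi j hj, bt_and, Finset.sum_range_succ,
      Nat.testBit_shiftRight, add_assoc, add_comm (Finset.sum _ _)]
    congr 4
    · congr 1; omega
    · rw [Nat.testBit_and, Nat.testBit_shiftRight]
      have h3 : (4503599627370495 : ℕ) = 2 ^ 52 - 1 := by norm_num
      rw [h3, Nat.testBit_two_pow_sub_one]
      simp [hj]

/-- the position of an index -/
def ix : chevF4.Idx → ℕ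
  | Sum.inl i => i
  | Sum.inr s => 4 + s

theorem ix_lt (u : chevF4.Idx) : ix u < 52 := by
  rcases u with i | s
  · have := i.2
    have h : chevF4.rank = 4 := rfl
    show (i : ℕ) < 52
    omega
  · have := s.2
    have h : chevF4.nroots = 48 := rfl
    show 4 + (s : ℕ) < 52
    omega

/-- the matrix of a number -/
def dec (a : ℕ) : Matrix chevF4.Idx chevF4.Idx (ZMod 2) := Matrix.of fun u s => bt (a.testBit (52 * ix u + ix s))

theorem sum_ix (F : ℕ → ZMod 2) : ∑ t : chevF4.Idx, F (ix t) = ∑ k ∈ Finset.range 52, F k := by
  rw [Fintype.sum_sum_type]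
  have h1 : ∑ i : Fin chevF4.rank, F (ix (Sum.inl i)) = ∑ k ∈ Finset.range 4, F k := Fin.sum_univ_eq_sum_range F 4
  have h2 : ∑ i : Fin chevF4.nroots, F (ix (Sum.inr i)) = ∑ k ∈ Finset.range 48, F (4 + k) :=
    Fin.sum_univ_eq_sum_range (fun k => F (4 + k)) 48
  rw [h1, h2, ← Finset.sum_range_add]

theorem dec_mul (a b : ℕ) : dec (mulN a b) = dec a * dec b := by
  ext u s
  rw [Matrix.mul_apply]
  show bt ((mulAux a b 52 0).testBit (52 * ix u + ix s)) = _
  rw [mulAux_bit a b (ix_lt u) (ix_lt s)]
  have h1 : bt ((0 : ℕ).testBit (52 * ix u + ix s)) = 0 := by rw [Nat.zero_testBit]; rfl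
  rw [h1, zero_add, ← sum_ix (fun k => bt (a.testBit (52 * ix u + k)) * bt (b.testBit (52 * k + ix s)))]
  rfl

/-- the matrix of a group element -/
def mt (g : GF) : Matrix chevF4.Idx chevF4.Idx (ZMod 2) := ((g : GL chevF4.Idx (ZMod 2)) : Matrix chevF4.Idx chevF4.Idx (ZMod 2))

theorem mt_mul (g h : GF) : mt (g * h) = mt g * mt h := rfl
theorem mt_one : mt 1 = 1 := rfl
theorem mt_inj {g h : GF} (e : mt g = mt h) : g = h := Subtype.ext (Units.ext e)

/-- a number representing a group element -/
def Rep (a : ℕ) (g : GF) : Prop := mt g = dec a

theorem Rep.mul {a b : ℕ} {g h : GF} (h1 : Rep a g) (h2 : Rep b h) : Rep (mulN a b) (g * h) := by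
  unfold Rep
  rw [mt_mul, dec_mul, h1, h2]

theorem Rep.eq {a : ℕ} {g h : GF} (h1 : Rep a g) (h2 : Rep a h) : g = h := mt_inj (by rw [h1, h2])

theorem Rep.eq' {a b : ℕ} {g h : GF} (h1 : Rep a g) (h2 : Rep b h) (e : a = b) : g = h := by
  subst e; exact h1.eq h2

theorem Rep.conj {s y y' : ℕ} {g h : GF} (h1 : Rep s g) (h2 : Rep y h) (e : mulN y' s = mulN s y) :
    Rep y' (g * h * g⁻¹) := by
  have h3 : dec y' * mt g = mt g * mt h := by rw [h1, h2, ← dec_mul, ← dec_mul, e]
  have h4 : mt g * mt g⁻¹ = 1 := by rw [← mt_mul, mul_inv_cancel, mt_one]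
  unfold Rep
  calc mt (g * h * g⁻¹) = mt g * mt h * mt g⁻¹ := by rw [mt_mul, mt_mul]
    _ = dec y' * mt g * mt g⁻¹ := by rw [h3]
    _ = dec y' * (mt g * mt g⁻¹) := by rw [Matrix.mul_assoc]
    _ = dec y' := by rw [h4, Matrix.mul_one]

end Cfsg.Agent.H80.Tits
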