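import Cfsg.Agent.H80.TitsC

set_option autoImplicit false
set_option maxRecDepth 100000

/-!
Numbers: the group of order 25.
-/

namespace Cfsg.Agent.H80.Tits

open Cfsg.Lie Cfsg.Agent.Chev Cfsg.Agent.ChevGrp Cfsg.Agent.ChevGrp.DData Cfsg.Agent.ChevWeyl Cfsg.Agent.ChevTw
  Cfsg.Agent.Tw3 Cfsg.Agent.ChevGrp.RGrp Cfsg.Agent.Tw4 Cfsg.Agent.Uni36

/-- the second generator of the group of order 25 -/
def YN5 : ℕ := 0x82000000004104c010581802602400812080120d8012485002d844010180802206c0185a1803608000000000018017600005d800009a000026800013200004c800015000000980001fe00007f8000090000002800011000000880001d000000b8004c0000000026024000000001200000404200008d8000000006c10001151a0026d0000c90a00128440000000022000000202000006c000000003604c00008180000000040020000824000020800000001130a0022d0001dd1a00368d800008500018000042420000044000080800006c0000a180000015000005400000900000240000110000044000017600000980001d0000074000009a000002800013200000880001fe00000b80080000000004004c010500002602400810000120d8012400002c144010100002206c0185000036082000000000180000000000008020040400001480017452002c60200000000019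

/-- the word of the conjugating element -/
def wy : List ℕ := [5, 9, 8, 9, 8, 9, 8, 9, 1, 1, 1, 5, 5, 5, 7]

/-- the words of the conjugators -/
def CW : List (List (List ℕ)) := [[[], [1, 3, 3, 8, 9, 8, 9, 8, 1, 1, 1, 5, 5, 5, 7], [1, 3, 3, 8, 9, 8, 9, 8, 1, 1, 1, 5, 5, 5], [1, 3, 3, 8, 9, 8, 9, 8, 1, 1, 1, 5, 5, 5, 7, 7], [1, 3, 3, 8, 9, 8, 9, 8, 1, 1, 1, 5, 5, 5, 7, 7, 7]],
  [[], [1, 2, 3, 8, 9, 8, 9, 8, 1, 1, 1, 5, 5, 5, 7, 7], [1, 2, 3, 3, 3, 8, 9, 8, 9, 8, 1, 1, 1, 5, 5, 5, 7, 7, 7], [8, 9, 8], [1, 8, 9, 8, 9, 8, 1, 1, 1, 5, 5, 5, 7]],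
  [[7, 7, 7], [8, 9, 8, 7, 7, 7], [1, 2, 3, 8, 9, 8, 9, 8, 1, 1, 1, 5, 5, 5, 7], [1, 8, 9, 8, 9, 8, 1, 1, 1, 5, 5, 5], [1, 2, 3, 3, 3, 8, 9, 8, 9, 8, 1, 1, 1, 5, 5, 5, 7, 7]],
  [[7], [1, 2, 3, 3, 3, 8, 9, 8, 9, 8, 1, 1, 1, 5, 5, 5], [1, 8, 9, 8, 9, 8, 1, 1, 1, 5, 5, 5, 7, 7], [1, 2, 3, 8, 9, 8, 9, 8, 1, 1, 1, 5, 5, 5, 7, 7, 7], [8, 9, 8, 7]],
  [[7, 7], [1, 8, 9, 8, 9, 8, 1, 1, 1, 5, 5, 5, 7, 7, 7], [8, 9, 8, 7, 7], [1, 2, 3, 3, 3, 8, 9, 8, 9, 8, 1, 1, 1, 5, 5, 5, 7], [1, 2, 3, 8, 9, 8, 9, 8, 1, 1, 1, 5, 5, 5]]]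

/-- the word of the conjugator -/
def cw (i k : ℕ) : List ℕ := (CW.getD i []).getD k []

/-- powers -/
def pwN (x : ℕ) : ℕ → ℕ
  | 0 => IDN
  | k + 1 => mulN (pwN x k) x

/-- different matrices -/
def nq (a b : ℕ) : Bool := !(Nat.beq (a % 2 ^ 2704) (b % 2 ^ 2704))

theorem c_x5 : chk5 (YL.getD 0 0) = true ∧ nq (YL.getD 0 0) IDN = true := by decide +kernel
theorem c_y5 : chk5 YN5 = true ∧ mulN YN5 (evN wy) = mulN (evN wy) (YL.getD 0 0) ∧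
    mulN (YL.getD 0 0) YN5 = mulN YN5 (YL.getD 0 0) := by decide +kernel
theorem c_ne : ∀ i < 5, nq YN5 (pwN (YL.getD 0 0) i) = true := by decide +kernel
theorem c_lt : (∀ k ∈ wy, k < 10) ∧ ∀ i < 5, ∀ k < 5, ∀ t ∈ cw i k, t < 10 := by decide +kernel
theorem c_cj : ∀ i < 5, ∀ k < 5, (i ≠ 0 ∨ k ≠ 0) →
    mulN (evN (cw i k)) (YL.getD 0 0) = mulN (mulN (pwN (YL.getD 0 0) i) (pwN YN5 k)) (evN (cw i k)) := by decide +kernel
theorem c_cen : mulN (GN 3) (YL.getD 0 0) = mulN (YL.getD 0 0) (GN 3) := by decide +kernel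
theorem c_nsq0 : mulN (GN 8) (evN [0, 8]) = mulN (evN [0, 8]) (GN 0) := by decide +kernel
theorem c_nsq1 : mulN (GN 9) (evN [7, 9]) = mulN (evN [7, 9]) (mulN (GN 7) (GN 7)) := by decide +kernel

end Cfsg.Agent.H80.Tits
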